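import Groth.Agent.GrLib8.OneDeg.HomFin
import Mathlib.LinearAlgebra.Dual.Lemmas
import Mathlib.LinearAlgebra.TensorProduct.Basic
import Mathlib.RingTheory.Flat.Basic

/-!
The total complex `Hom(Hom(F, R), J)` resolves `M`.
-/

namespace Groth.Agent.GrLib8.OneDeg

open Groth.Agent TensorProduct

universe u

variable {R : Type u} [CommRing R]

/-- The terms of the minimal injective resolution as types. -/
abbrev JT (R : Type u) [CommRing R] (t : ℕ) : Type u := Jt R t

/-- Its differential. -/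
noncomputable abbrev δJ (R : Type u) [CommRing R] (t : ℕ) : JT R t →ₗ[R] JT R (t + 1) := dJ R t

lemma injective_hom_of_projective (D W : Type u) [AddCommGroup D] [Module R D] [Module.Projective R D]
    [AddCommGroup W] [Module R W] [Module.Injective R W] : Module.Injective R (D →ₗ[R] W) := by
  refine ⟨fun X Y _ _ _ _ f hf g => ?_⟩
  obtain ⟨h, hh⟩ := Module.Injective.out (f.rTensor D)
    (Module.Flat.rTensor_preserves_injective_linearMap f hf) (TensorProduct.lift g)
  refine ⟨TensorProduct.curry h, fun x => LinearMap.ext fun d => ?_⟩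
  rw [TensorProduct.curry_apply]
  exact (hh (x ⊗ₜ d)).trans (TensorProduct.lift.tmul x d)

lemma injective_of_retract {X Y : Type u} [AddCommGroup X] [Module R X] [AddCommGroup Y] [Module R Y]
    [Module.Injective R X] (r : X →ₗ[R] Y) (s : Y →ₗ[R] X) (h : ∀ y, r (s y) = y) :
    Module.Injective R Y := by
  refine ⟨fun A B _ _ _ _ f hf g => ?_⟩
  obtain ⟨k, hk⟩ := Module.Injective.out f hf (s ∘ₗ g)
  exact ⟨r ∘ₗ k, fun a => by rw [LinearMap.comp_apply, hk, LinearMap.comp_apply, h]⟩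

lemma injective_range_of_injective_ker {X Y : Type u} [AddCommGroup X] [Module R X] [AddCommGroup Y]
    [Module R Y] [Module.Injective R X] (f : X →ₗ[R] Y) [Module.Injective R (LinearMap.ker f)] :
    Module.Injective R (LinearMap.range f) := by
  obtain ⟨r, hr⟩ := Module.Injective.out (LinearMap.ker f).subtype (Submodule.injective_subtype _)
    LinearMap.id
  let s₀ : X →ₗ[R] X := LinearMap.id - (LinearMap.ker f).subtype ∘ₗ r
  have hs₀ : LinearMap.ker f.rangeRestrict ≤ LinearMap.ker s₀ := fun x hx => by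
    have hx' : f x = 0 := congrArg Subtype.val hx
    show x - (r x).1 = 0
    rw [show r x = ⟨x, hx'⟩ from hr ⟨x, hx'⟩, sub_self]
  let e := f.rangeRestrict.quotKerEquivOfSurjective f.surjective_rangeRestrict
  refine injective_of_retract f.rangeRestrict ((LinearMap.ker f.rangeRestrict).liftQ s₀ hs₀ ∘ₗ e.symm.toLinearMap)
    fun y => ?_
  obtain ⟨x, rfl⟩ := f.surjective_rangeRestrict y
  rw [LinearMap.comp_apply, LinearEquiv.coe_coe,
    show f.rangeRestrict x = e (Submodule.Quotient.mk x) from rfl, LinearEquiv.symm_apply_apply,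
    Submodule.liftQ_apply]
  show f.rangeRestrict (x - (r x).1) = f.rangeRestrict x
  rw [map_sub, show f.rangeRestrict (r x).1 = 0 from Subtype.ext (r x).2, sub_zero]

section Complex

variable {M : Type u} [AddCommGroup M] [Module R M] (P : FRes R M)

/-- The total complex. -/
abbrev FamJ : Type u := Fam R (DD P) (JT R)

/-- Its differential. -/
noncomputable abbrev dTot : FamJ P →ₗ[R] FamJ P := dT (dd P) (δJ R)

lemma dTot_dTot (z : FamJ P) : dTot P (dTot P z) = 0 :=
  dT_dT (dd P) (δJ R) (dd_dd P) (dJ_dJ R) z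

lemma subsingleton_DD {q : ℕ} (hq : P.len < q) : Subsingleton (DD P q) := by
  have := P.vanish q hq
  exact ⟨fun a b => LinearMap.ext fun x => by rw [Subsingleton.elim x 0, map_zero, map_zero]⟩

instance projective_DD (q : ℕ) : Module.Projective R (DD P q) := Module.dual_projective

instance finite_DD (q : ℕ) : Module.Finite R (DD P q) := Module.dual_finite

lemma lift_DD (q l : ℕ) (φ : DD P q →ₗ[R] JT R (l + 1)) (hφ : δJ R (l + 1) ∘ₗ φ = 0) :
    ∃ ψ, δJ R l ∘ₗ ψ = φ := by
  have h : ∀ x, φ x ∈ LinearMap.range (δJ R l) := fun x => dJ_exact R l _ (LinearMap.congr_fun hφ x)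
  obtain ⟨ψ, hψ⟩ := Module.projective_lifting_property (δJ R l).rangeRestrict (φ.codRestrict _ h)
    (δJ R l).surjective_rangeRestrict
  exact ⟨ψ, LinearMap.ext fun x => congrArg Subtype.val (LinearMap.congr_fun hψ x)⟩

lemma reduce {a b m : ℕ} (z : FamJ P) (hz : z ∈ Cdeg R (DD P) (JT R) a b)
    (hdz : ∀ q l, m ≤ q → dTot P z q (l + 1) = 0) (hab : a < b + m) :
    ∃ w ∈ Cdeg R (DD P) (JT R) (a + 1) b, ∀ q l, m ≤ q → (z - dTot P w) q l = 0 :=
  exists_reduce (dd P) (δJ R) (lift_DD P) (dd_dd P) (dJ_dJ R) P.len (fun _ => subsingleton_DD P)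
    (P.len + 1) z hz hdz (by omega) hab

/-- An element of `F q` as a component at `(q, 0)`. -/
noncomputable def bid (q : ℕ) : P.F q →ₗ[R] (DD P q →ₗ[R] JT R 0) where
  toFun x := augJ R ∘ₗ Module.Dual.eval R (P.F q) x
  map_add' a b := by rw [map_add, LinearMap.comp_add]
  map_smul' r a := by rw [map_smul, LinearMap.comp_smul]; rfl

lemma bid_apply (q : ℕ) (x : P.F q) (φ : DD P q) : bid P q x φ = augJ R (φ x) := rfl

lemma bid_injective (q : ℕ) : Function.Injective (bid P q) := fun _ _ h =>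
  Module.eval_apply_injective R
    (LinearMap.ext fun φ => emb_injective R 0 (LinearMap.congr_fun h φ))

lemma exists_bid (q : ℕ) (φ : DD P q →ₗ[R] JT R 0) (hφ : δJ R 0 ∘ₗ φ = 0) : ∃ x, bid P q x = φ := by
  have h : ∀ x, φ x ∈ LinearMap.range (augJ R) := fun x =>
    (dJ_zero_iff R (φ x)).1 (LinearMap.congr_fun hφ x)
  let e := LinearEquiv.ofInjective (augJ R) (emb_injective R 0)
  obtain ⟨x, hx⟩ := (Module.bijective_dual_eval R (P.F q)).2 (e.symm.toLinearMap ∘ₗ φ.codRestrict _ h)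
  refine ⟨x, LinearMap.ext fun ψ => ?_⟩
  rw [bid_apply, show ψ x = e.symm ⟨φ ψ, h ψ⟩ from LinearMap.congr_fun hx ψ]
  exact congrArg Subtype.val (e.apply_symm_apply ⟨φ ψ, h ψ⟩)

lemma δJ_comp_bid (q : ℕ) (x : P.F q) : δJ R 0 ∘ₗ bid P q x = 0 :=
  LinearMap.ext fun _ => (dJ_zero_iff R _).2 ⟨_, rfl⟩

lemma bid_comp_dd (q : ℕ) (y : P.F (q + 1)) : bid P (q + 1) y ∘ₗ dd P q = bid P q (P.d q y) :=
  LinearMap.ext fun _ => rfl

lemma dTot_sgl_bid (q : ℕ) (y : P.F (q + 1)) :
    dTot P (sgl (q + 1) 0 (bid P (q + 1) y)) = sgl q 0 (bid P q (P.d q y)) := by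
  funext q' l'
  rcases l' with _ | _ | l'
  · show dT (dd P) (δJ R) _ q' 0 = _
    rw [dT_apply_zero]
    by_cases hq : q' = q
    · subst hq; rw [sgl_same, sgl_same, bid_comp_dd]
    · rw [sgl_ne _ (by omega), LinearMap.zero_comp, sgl_ne _ (by omega)]
  · show dT (dd P) (δJ R) _ q' (0 + 1) = _
    rw [dT_apply_succ, sgl_ne _ (show ¬(q' + 1 = q + 1 ∧ 0 + 1 = 0) by omega),
      sgl_ne _ (show ¬(q' = q ∧ 0 + 1 = 0) by omega), LinearMap.zero_comp]
    by_cases hq : q' = q + 1
    · subst hq; rw [sgl_same, δJ_comp_bid]; simp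
    · rw [sgl_ne _ (show ¬(q' = q + 1 ∧ 0 = 0) by omega)]; simp
  · show dT (dd P) (δJ R) _ q' (l' + 1 + 1) = _
    rw [dT_apply_succ, sgl_ne _ (by omega), LinearMap.zero_comp, zero_add, sgl_ne _ (by omega),
      LinearMap.comp_zero, smul_zero, sgl_ne _ (by omega)]

/-- The boundaries in degree `-a`. -/
noncomputable def Bd (a : ℕ) : Submodule R (FamJ P) := (Cdeg R (DD P) (JT R) (a + 1) 0).map (dTot P)

lemma Bd_le (a : ℕ) : Bd P a ≤ Cdeg R (DD P) (JT R) a 0 := by
  rintro _ ⟨w, hw, rfl⟩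
  rw [cdeg_congr (show a + (0 + 1) = (a + 1) + 0 by omega)]
  exact dT_mem (dd P) (δJ R) hw

lemma exists_pre_pos {n : ℕ} (z : FamJ P) (hz : z ∈ Cdeg R (DD P) (JT R) 0 (n + 1)) (hdz : dTot P z = 0) :
    ∃ w ∈ Cdeg R (DD P) (JT R) 0 n, dTot P w = z := by
  obtain ⟨w, hw, hwz⟩ := reduce P (m := 0) z hz (fun q l _ => by rw [hdz]; rfl) (by omega)
  refine ⟨w, ?_, funext fun q => funext fun l => (sub_eq_zero.1 (hwz q l (Nat.zero_le q))).symm⟩
  rw [cdeg_congr (show 0 + (n + 1) = (0 + 1) + n by omega)]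
  exact hw

lemma exists_pre_neg (a : ℕ) (z : FamJ P) (hz : z ∈ Cdeg R (DD P) (JT R) (a + 1) 0) (hdz : dTot P z = 0) :
    z ∈ Bd P (a + 1) := by
  obtain ⟨w, hw, hwz⟩ := reduce P (m := a + 2) z hz (fun q l _ => by rw [hdz]; rfl) (by omega)
  set z' := z - dTot P w with hz'def
  have hz' : z' ∈ Cdeg R (DD P) (JT R) (a + 1) 0 :=
    Submodule.sub_mem _ hz (Bd_le P (a + 1) ⟨w, hw, rfl⟩)
  have hdz' : dTot P z' = 0 := by rw [hz'def, map_sub, hdz, dTot_dTot, sub_zero]
  obtain ⟨x, hx⟩ : ∃ x, bid P (a + 1) x = z' (a + 1) 0 := by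
    refine exists_bid P _ _ ?_
    have h1 : dTot P z' (a + 1) 1 = 0 := by rw [hdz']; rfl
    rw [dT_apply_succ, hwz (a + 2) 1 le_rfl, LinearMap.zero_comp, zero_add] at h1
    have h2 := congrArg (fun f => ((-1 : R) ^ (a + 1)) • f) h1
    simpa [smul_smul, ← pow_add, ← two_mul, pow_mul] using h2
  obtain ⟨y, hy⟩ : ∃ y, P.d (a + 1) y = x := by
    refine (P.exact a x).1 (bid_injective P a ?_)
    rw [map_zero, ← bid_comp_dd, hx]
    have h1 : dTot P z' a 0 = 0 := by rw [hdz']; rfl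
    rwa [dT_apply_zero] at h1
  have hz'eq : z' = sgl (a + 1) 0 (bid P (a + 1) x) := by
    funext q l
    by_cases h : q = a + 1 ∧ l = 0
    · rw [h.1, h.2, sgl_same, hx]
    · rw [sgl_ne _ h]
      rcases lt_or_ge q (a + 2) with hq | hq
      · exact hz' q l (by omega)
      · exact hwz q l hq
  refine ⟨w + sgl (a + 2) 0 (bid P (a + 2) y), Submodule.add_mem _ hw (sgl_mem _ _ _ _ _ (by omega)), ?_⟩
  rw [map_add, dTot_sgl_bid, hy, ← hz'eq, hz'def, add_sub_cancel]

/-- `M`'s cocycles in degree zero. -/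
noncomputable def iota : P.F 0 →ₗ[R] FamJ P where
  toFun x := sgl 0 0 (bid P 0 x)
  map_add' a b := by
    funext q l
    by_cases h : q = 0 ∧ l = 0
    · rw [h.1, h.2]; simp only [Pi.add_apply, sgl_same, map_add]
    · simp only [Pi.add_apply, sgl_ne _ h, add_zero]
  map_smul' r a := by
    funext q l
    by_cases h : q = 0 ∧ l = 0
    · rw [h.1, h.2]; simp only [Pi.smul_apply, sgl_same, map_smul, RingHom.id_apply]
    · simp only [Pi.smul_apply, sgl_ne _ h, smul_zero]

lemma iota_mem (x : P.F 0) : iota P x ∈ Cdeg R (DD P) (JT R) 0 0 := sgl_mem 0 0 0 0 _ rfl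

lemma dTot_iota (x : P.F 0) : dTot P (iota P x) = 0 := by
  funext q l
  rcases l with _ | l
  · show dT (dd P) (δJ R) (sgl 0 0 (bid P 0 x)) q 0 = _
    rw [dT_apply_zero, sgl_ne _ (by omega), LinearMap.zero_comp]
    rfl
  · show dT (dd P) (δJ R) (sgl 0 0 (bid P 0 x)) q (l + 1) = _
    rw [dT_apply_succ, sgl_ne _ (by omega), LinearMap.zero_comp, zero_add]
    by_cases hq : q = 0 ∧ l = 0
    · obtain ⟨rfl, rfl⟩ := hq
      rw [sgl_same, δJ_comp_bid, smul_zero]; rfl
    · rw [sgl_ne _ hq, LinearMap.comp_zero, smul_zero]; rfl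

lemma exists_iota (z : FamJ P) (hz : z ∈ Cdeg R (DD P) (JT R) 0 0) (hdz : dTot P z = 0) :
    ∃ x, z - iota P x ∈ Bd P 0 := by
  obtain ⟨w, hw, hwz⟩ := reduce P (m := 1) z hz (fun q l _ => by rw [hdz]; rfl) (by omega)
  set z' := z - dTot P w with hz'def
  have hz' : z' ∈ Cdeg R (DD P) (JT R) 0 0 := Submodule.sub_mem _ hz (Bd_le P 0 ⟨w, hw, rfl⟩)
  have hdz' : dTot P z' = 0 := by rw [hz'def, map_sub, hdz, dTot_dTot, sub_zero]
  obtain ⟨x, hx⟩ : ∃ x, bid P 0 x = z' 0 0 := by
    refine exists_bid P _ _ ?_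
    have h1 : dTot P z' 0 1 = 0 := by rw [hdz']; rfl
    rw [dT_apply_succ, hwz 1 1 le_rfl, LinearMap.zero_comp, zero_add, pow_zero, one_smul] at h1
    exact h1
  refine ⟨x, w, hw, ?_⟩
  have hz'eq : z' = iota P x := by
    funext q l
    show _ = sgl 0 0 (bid P 0 x) q l
    by_cases h : q = 0 ∧ l = 0
    · rw [h.1, h.2, sgl_same, hx]
    · rw [sgl_ne _ h]
      rcases Nat.eq_zero_or_pos q with hq | hq
      · exact hz' q l (by omega)
      · exact hwz q l hq
  rw [← hz'eq, hz'def, sub_sub_cancel]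

lemma iota_mem_Bd (y : P.F 1) : iota P (P.d 0 y) ∈ Bd P 0 :=
  ⟨sgl 1 0 (bid P 1 y), sgl_mem 1 0 1 0 _ rfl, dTot_sgl_bid P 0 y⟩

lemma eq_d_of_iota_mem_Bd (x : P.F 0) (hx : iota P x ∈ Bd P 0) : ∃ y, P.d 0 y = x := by
  obtain ⟨w, hw, hwx⟩ := hx
  have hsupp : ∀ q l, 1 ≤ q → dTot P w q l = 0 := fun q l hq => by
    rw [hwx]
    show sgl 0 0 (bid P 0 x) q l = 0
    exact sgl_ne _ (by omega)
  obtain ⟨v, hv, hvw⟩ := reduce P (m := 2) w hw (fun q l hq => hsupp q (l + 1) (by omega)) (by omega)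
  set w' := w - dTot P v with hw'def
  have hdw' : dTot P w' = iota P x := by
    rw [hw'def, map_sub, dTot_dTot, sub_zero]
    exact hwx
  obtain ⟨y, hy⟩ : ∃ y, bid P 1 y = w' 1 0 := by
    refine exists_bid P _ _ ?_
    have h1 : dTot P w' 1 1 = 0 := by
      rw [hdw']
      show sgl 0 0 (bid P 0 x) 1 1 = 0
      exact sgl_ne _ (by omega)
    rw [dT_apply_succ, hvw 2 1 le_rfl, LinearMap.zero_comp, zero_add] at h1
    simpa using h1
  refine ⟨y, bid_injective P 0 ?_⟩
  rw [← bid_comp_dd, hy]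
  have h1 : dTot P w' 0 0 = bid P 0 x := by
    rw [hdw']
    show sgl 0 0 (bid P 0 x) 0 0 = bid P 0 x
    exact sgl_same 0 0 _
  rwa [dT_apply_zero] at h1

lemma injective_Cdeg (a b : ℕ) : Module.Injective R ↥(Cdeg R (DD P) (JT R) a b) := by
  have h1 : ∀ q l, Module.Injective R (DD P q →ₗ[R] JT R l) := fun q l =>
    injective_hom_of_projective (DD P q) (JT R l)
  have h2 : ∀ q, Module.Injective R (∀ l, DD P q →ₗ[R] JT R l) := fun q => Module.Injective.pi R _
  have h3 : Module.Injective R (FamJ P) := Module.Injective.pi R _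
  let r : FamJ P →ₗ[R] ↥(Cdeg R (DD P) (JT R) a b) :=
    { toFun := fun z => ⟨fun q l => if l + a = b + q then z q l else 0,
        fun q l hl => by simp [hl]⟩
      map_add' := fun y z => Subtype.ext (funext fun q => funext fun l => by
        by_cases h : l + a = b + q <;> simp [h])
      map_smul' := fun c z => Subtype.ext (funext fun q => funext fun l => by
        by_cases h : l + a = b + q <;> simp [h]) }
  refine injective_of_retract r (Cdeg R (DD P) (JT R) a b).subtype fun y => Subtype.ext ?_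
  funext q l
  by_cases h : l + a = b + q
  · show (if l + a = b + q then y.1 q l else 0) = y.1 q l
    rw [if_pos h]
  · show (if l + a = b + q then y.1 q l else 0) = y.1 q l
    rw [if_neg h, y.2 q l h]

lemma injective_Bd : ∀ (k a : ℕ), P.len ≤ a + k → Module.Injective R ↥(Bd P a) := by
  intro k
  induction k with
  | zero =>
    intro a ha
    have : Subsingleton ↥(Bd P a) := ⟨fun ⟨x, hx⟩ ⟨y, hy⟩ => Subtype.ext (by
      have h0 : ∀ z ∈ Bd P a, z = 0 := by
        rintro _ ⟨w, hw, rfl⟩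
        have : w = 0 := funext fun q => funext fun l => by
          by_cases hl : l + (a + 1) = 0 + q
          · have := subsingleton_DD P (show P.len < q by omega)
            exact LinearMap.ext fun φ => by rw [Subsingleton.elim φ 0, map_zero, map_zero]
          · exact hw q l hl
        rw [this, map_zero]
      exact (h0 x hx).trans (h0 y hy).symm)⟩
    exact ⟨fun X Y _ _ _ _ f hf g => ⟨0, fun x => Subsingleton.elim _ _⟩⟩
  | succ k ih =>
    intro a ha
    have := injective_Cdeg P (a + 1) 0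
    have := ih (a + 1) (by omega)
    let f : ↥(Cdeg R (DD P) (JT R) (a + 1) 0) →ₗ[R] FamJ P := (dTot P).domRestrict _
    have hrange : LinearMap.range f = Bd P a := (LinearMap.range_domRestrict _ _)
    have hk : Module.Injective R ↥(LinearMap.ker f) := by
      let i : ↥(Bd P (a + 1)) →ₗ[R] ↥(LinearMap.ker f) :=
        LinearMap.codRestrict _ ((Submodule.inclusion (Bd_le P (a + 1)))) fun z => by
          obtain ⟨w, _, hw⟩ := z.2
          show dTot P z.1 = 0
          rw [← hw, dTot_dTot]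
      let j : ↥(LinearMap.ker f) →ₗ[R] ↥(Bd P (a + 1)) :=
        LinearMap.codRestrict _ ((Cdeg R (DD P) (JT R) (a + 1) 0).subtype ∘ₗ (LinearMap.ker f).subtype)
          fun z => exists_pre_neg P a z.1.1 z.1.2 z.2
      exact injective_of_retract i j fun y => Subtype.ext (Subtype.ext rfl)
    rw [← hrange]
    exact injective_range_of_injective_ker f

end Complex

end Groth.Agent.GrLib8.OneDeg
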