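import Groth.Agent.GrLib8.OneDeg.Bidual
import Groth.Agent.LC.CohDerived
import Mathlib.Algebra.Category.ModuleCat.Injective
import Mathlib.CategoryTheory.Abelian.Injective.Resolution

/-!
The injective resolution of `M` given by the total complex, and local cohomology of `M`.
-/

namespace Groth.Agent.GrLib8.OneDeg

open CategoryTheory Groth.Agent

universe u

variable {R : Type u} [CommRing R] {M : Type u} [AddCommGroup M] [Module R M] (P : FRes R M)

/-- The degree `n` part. -/
noncomputable abbrev CC (n : ℕ) : Submodule R (FamJ P) := Cdeg R (DD P) (JT R) 0 n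

/-- The differential between them. -/
noncomputable def dCC (n : ℕ) : ↥(CC P n) →ₗ[R] ↥(CC P (n + 1)) :=
  (dTot P).restrict fun _ hz => dT_mem (dd P) (δJ R) hz

/-- The boundaries inside degree zero. -/
noncomputable def B0 : Submodule R ↥(CC P 0) := (Bd P 0).comap (CC P 0).subtype

/-- The terms of the resolution. -/
noncomputable def XX : ℕ → ModuleCat.{u} R
  | 0 => ModuleCat.of R (↥(CC P 0) ⧸ B0 P)
  | n + 1 => ModuleCat.of R ↥(CC P (n + 1))

lemma B0_le_ker : B0 P ≤ LinearMap.ker (dCC P 0) := fun z hz => by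
  obtain ⟨w, _, hw⟩ := hz
  refine Subtype.ext ?_
  show dTot P z.1 = 0
  rw [show z.1 = dTot P w from hw.symm, dTot_dTot]

/-- The differential. -/
noncomputable def dX : ∀ n, XX P n ⟶ XX P (n + 1)
  | 0 => ModuleCat.ofHom ((B0 P).liftQ (dCC P 0) (B0_le_ker P))
  | n + 1 => ModuleCat.ofHom (dCC P (n + 1))

lemma dCC_dCC (n : ℕ) (z : ↥(CC P n)) : dCC P (n + 1) (dCC P n z) = 0 :=
  Subtype.ext (dTot_dTot P z.1)

lemma dX_dX (n : ℕ) : dX P n ≫ dX P (n + 1) = 0 := by
  rcases n with _ | n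
  · refine ModuleCat.hom_ext (LinearMap.ext fun z => ?_)
    obtain ⟨z, rfl⟩ := Submodule.Quotient.mk_surjective _ z
    exact dCC_dCC P 0 z
  · exact ModuleCat.hom_ext (LinearMap.ext fun z => dCC_dCC P (n + 1) z)

/-- `F 0` in degree zero. -/
noncomputable def iotaQ : P.F 0 →ₗ[R] XX P 0 :=
  (B0 P).mkQ ∘ₗ (iota P).codRestrict (CC P 0) (iota_mem P)

lemma ker_ε_le : LinearMap.ker P.ε ≤ LinearMap.ker (iotaQ P) := fun x hx => by
  obtain ⟨y, rfl⟩ := (P.exact₀ x).1 hx
  exact (Submodule.Quotient.mk_eq_zero (B0 P)).2 (iota_mem_Bd P y)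

/-- The augmentation. -/
noncomputable def ηX : M →ₗ[R] XX P 0 :=
  (LinearMap.ker P.ε).liftQ (iotaQ P) (ker_ε_le P) ∘ₗ
    (P.ε.quotKerEquivOfSurjective P.surj).symm.toLinearMap

lemma ηX_ε (x : P.F 0) : ηX P (P.ε x) = iotaQ P x := by
  rw [ηX, LinearMap.comp_apply, LinearEquiv.coe_coe,
    show P.ε x = P.ε.quotKerEquivOfSurjective P.surj (Submodule.Quotient.mk x) from rfl,
    LinearEquiv.symm_apply_apply]
  rfl

lemma ηX_injective : Function.Injective (ηX P) := by
  rw [injective_iff_map_eq_zero]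
  intro m hm
  obtain ⟨x, rfl⟩ := P.surj m
  rw [ηX_ε] at hm
  exact (P.exact₀ x).2 (eq_d_of_iota_mem_Bd P x ((Submodule.Quotient.mk_eq_zero (B0 P)).1 hm))

lemma exact_ηX : Function.Exact (ηX P) (dX P 0).hom := by
  intro z
  obtain ⟨z, rfl⟩ := Submodule.Quotient.mk_surjective (B0 P) z
  constructor
  · intro hz
    obtain ⟨x, hx⟩ := exists_iota P z.1 z.2 (congrArg Subtype.val hz)
    refine ⟨P.ε x, ?_⟩
    rw [ηX_ε]
    refine ((Submodule.Quotient.eq (B0 P)).2 ?_).symm
    exact hx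
  · rintro ⟨m, hm⟩
    obtain ⟨x, rfl⟩ := P.surj m
    rw [ηX_ε] at hm
    rw [← hm]
    exact Subtype.ext (dTot_iota P x)

lemma exact_dX (n : ℕ) : Function.Exact (dX P n).hom (dX P (n + 1)).hom := by
  refine fun z => ⟨fun hz => ?_, ?_⟩
  · obtain ⟨w, hw, hwz⟩ := exists_pre_pos P z.1 z.2 (congrArg Subtype.val hz)
    rcases n with _ | n
    · exact ⟨(B0 P).mkQ ⟨w, hw⟩, Subtype.ext hwz⟩
    · exact ⟨(⟨w, hw⟩ : ↥(CC P (n + 1))), Subtype.ext hwz⟩
  · rintro ⟨y, rfl⟩
    exact LinearMap.congr_fun (congrArg ModuleCat.Hom.hom (dX_dX P n)) y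

lemma injective_XX : ∀ n, Injective (XX P n)
  | 0 => by
    have := injective_Cdeg P 0 0
    have := injective_Bd P P.len 0 (by omega)
    have hB : Module.Injective R ↥(LinearMap.ker (B0 P).mkQ) := by
      rw [Submodule.ker_mkQ]
      exact injective_of_retract (Submodule.comapSubtypeEquivOfLe (Bd_le P 0)).symm.toLinearMap
        (Submodule.comapSubtypeEquivOfLe (Bd_le P 0)).toLinearMap
        fun y => (Submodule.comapSubtypeEquivOfLe (Bd_le P 0)).symm_apply_apply y
    have h := injective_range_of_injective_ker (B0 P).mkQ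
    have h2 : Module.Injective R (↥(CC P 0) ⧸ B0 P) :=
      injective_of_retract (LinearMap.range (B0 P).mkQ).subtype
        (LinearMap.codRestrict _ LinearMap.id fun y => Submodule.mkQ_surjective _ y) fun _ => rfl
    exact Module.injective_object_of_injective_module R (↥(CC P 0) ⧸ B0 P)
  | n + 1 => by
    have := injective_Cdeg P 0 (n + 1)
    exact Module.injective_object_of_injective_module R ↥(CC P (n + 1))

/-- The cochain complex. -/
noncomputable abbrev KX : CochainComplex (ModuleCat.{u} R) ℕ := CochainComplex.of (XX P) (dX P) (dX_dX P)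

lemma KX_d (n : ℕ) : (KX P).d n (n + 1) = dX P n := CochainComplex.of_d (XX P) (dX P) n

/-- The map from `M`. -/
noncomputable def ιX : (CochainComplex.single₀ (ModuleCat.{u} R)).obj (ModuleCat.of R M) ⟶ KX P :=
  (CochainComplex.fromSingle₀Equiv _ _).symm ⟨ModuleCat.ofHom (ηX P), by
    rw [KX_d]
    exact ModuleCat.hom_ext (LinearMap.ext fun m => (exact_ηX P).apply_apply_eq_zero m)⟩

lemma quasiIso_ιX : QuasiIso (ιX P) := ⟨fun n => by
  cases n
  · rw [CochainComplex.quasiIsoAt₀_iff, ShortComplex.quasiIso_iff_of_zeros]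
    · refine (ShortComplex.exact_and_mono_f_iff_of_iso
        (S₂ := ShortComplex.mk (ModuleCat.ofHom (ηX P)) (dX P 0)
          (ModuleCat.hom_ext (LinearMap.ext fun m => (exact_ηX P).apply_apply_eq_zero m))) ?_).2
        ⟨(ShortComplex.ShortExact.moduleCat_exact_iff_function_exact _).2 (exact_ηX P),
          (ModuleCat.mono_iff_injective _).2 (ηX_injective P)⟩
      exact ShortComplex.isoMk (Iso.refl _) (Iso.refl _) (Iso.refl _)
        (by simp [ιX, CochainComplex.fromSingle₀Equiv]; rfl)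
        (by simp only [Iso.refl_hom, Category.id_comp, Category.comp_id]; exact (KX_d P 0).symm)
    all_goals rfl
  · rename_i n
    rw [quasiIsoAt_iff_exactAt]
    · rw [HomologicalComplex.exactAt_iff' _ n (n + 1) (n + 1 + 1) (by simp) (by simp),
        ShortComplex.ShortExact.moduleCat_exact_iff_function_exact]
      show Function.Exact ((KX P).d n (n + 1)).hom ((KX P).d (n + 1) (n + 1 + 1)).hom
      rw [KX_d, KX_d]
      exact exact_dX P n
    · apply CochainComplex.exactAt_succ_single_obj⟩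

/-- The injective resolution. -/
noncomputable def resM : InjectiveResolution (ModuleCat.of R M) where
  cocomplex := KX P
  injective := injective_XX P
  ι := ιX P
  quasiIso := quasiIso_ιX P

variable (J : Ideal R)

/-- `Γ_J` componentwise. -/
noncomputable def inclF : Fam R (DD P) (WW J) →ₗ[R] FamJ P where
  toFun z q l := (DRing.torsionSub J (Jt R l)).subtype ∘ₗ z q l
  map_add' _ _ := rfl
  map_smul' _ _ := rfl

lemma inclF_dT (z : Fam R (DD P) (WW J)) : inclF P J (dT (dd P) (dW J) z) = dTot P (inclF P J z) := by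
  funext q l
  rcases l with _ | l
  · show (DRing.torsionSub J (Jt R 0)).subtype ∘ₗ dT (dd P) (dW J) z q 0 =
      dT (dd P) (δJ R) (inclF P J z) q 0
    rw [dT_apply_zero, dT_apply_zero]; rfl
  · show (DRing.torsionSub J (Jt R (l + 1))).subtype ∘ₗ dT (dd P) (dW J) z q (l + 1) =
      dT (dd P) (δJ R) (inclF P J z) q (l + 1)
    rw [dT_apply_succ, dT_apply_succ]; rfl

lemma inclF_mem {a b : ℕ} {z : Fam R (DD P) (WW J)} (hz : z ∈ Cdeg R (DD P) (WW J) a b) :
    inclF P J z ∈ Cdeg R (DD P) (JT R) a b := fun q l hl => by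
  show (DRing.torsionSub J (Jt R l)).subtype ∘ₗ z q l = 0
  rw [hz q l hl]; rfl

lemma exists_kill_comp (q l : ℕ) (φ : DD P q →ₗ[R] WW J l) : ∃ m, ∀ a ∈ J ^ m, a • φ = 0 := by
  obtain ⟨s, hs⟩ : (⊤ : Submodule R (DD P q)).FG := Module.Finite.fg_top
  choose n hn using fun x : DD P q => (φ x).2
  refine ⟨s.sup n, fun a ha => LinearMap.ext_on hs fun x hx => Subtype.ext ?_⟩
  exact hn x a (Ideal.pow_le_pow_right (Finset.le_sup hx) ha)

lemma inclF_torsion (n : ℕ) (z : Fam R (DD P) (WW J)) (hz : z ∈ Cdeg R (DD P) (WW J) 0 n) :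
    (⟨inclF P J z, inclF_mem P J hz⟩ : ↥(CC P n)) ∈ DRing.torsionSub J ↥(CC P n) := by
  choose m hm using fun q => exists_kill_comp P J q (n + q) (z q (n + q))
  refine ⟨(Finset.range (P.len + 1)).sup m, fun a ha => Subtype.ext (funext fun q => funext fun l => ?_)⟩
  by_cases hq : q ≤ P.len
  · by_cases hl : l = n + q
    · subst hl
      show a • ((DRing.torsionSub J (Jt R (n + q))).subtype ∘ₗ z q (n + q)) = 0
      rw [← LinearMap.comp_smul, hm q a (Ideal.pow_le_pow_right
        (Finset.le_sup (Finset.mem_range.2 (Nat.lt_succ_of_le hq))) ha), LinearMap.comp_zero]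
    · show a • ((DRing.torsionSub J (Jt R l)).subtype ∘ₗ z q l) = 0
      rw [hz q l (by omega), LinearMap.comp_zero, smul_zero]
  · have := subsingleton_DD P (not_le.1 hq)
    exact LinearMap.ext fun φ => by rw [Subsingleton.elim φ 0, map_zero, map_zero]

lemma classOf_eq_zero_of (K : CochainComplex (ModuleCat.{u} R) ℕ) (n : ℕ)
    (z : LinearMap.ker (K.d (n + 1) (n + 1 + 1)).hom) (y : K.X n) (hy : (K.d n (n + 1)).hom y = z.1) :
    LC.classOf K (n + 1) z = 0 := by
  rw [LC.classOf_eq_zero_iff, CochainComplex.prev_nat_succ]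
  exact ⟨y, hy⟩

/-- A finiteness criterion for `H^{n+1}_J` through an injective resolution. -/
theorem finite_H_of_cycles [IsNoetherianRing R] {N : ModuleCat.{u} R} (J : Ideal R) (Q : InjectiveResolution N)
    (n : ℕ) {Z : Type u} [AddCommGroup Z] [Module R Z] (G : Submodule R Z) (hG : G.FG)
    (lam : Z →ₗ[R] Q.cocomplex.X (n + 1))
    (ht : ∀ z, lam z ∈ DRing.torsionSub J (Q.cocomplex.X (n + 1)))
    (hc : ∀ z, (Q.cocomplex.d (n + 1) (n + 1 + 1)).hom (lam z) = 0)
    (hall : ∀ x ∈ DRing.torsionSub J (Q.cocomplex.X (n + 1)),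
      (Q.cocomplex.d (n + 1) (n + 1 + 1)).hom x = 0 → ∃ z, lam z = x)
    (hb : ∀ z, ∃ g ∈ G, ∃ y ∈ DRing.torsionSub J (Q.cocomplex.X n),
      (Q.cocomplex.d n (n + 1)).hom y = lam (z - g)) :
    Module.Finite R ((localCohomology J (n + 1)).obj N) := by
  let K := LC.gCx J Q
  let c : Z →ₗ[R] LinearMap.ker (K.d (n + 1) (n + 1 + 1)).hom :=
    { toFun := fun z => ⟨(⟨lam z, ht z⟩ : DRing.torsionSub J (Q.cocomplex.X (n + 1))), Subtype.ext (hc z)⟩
      map_add' := fun a b => Subtype.ext (Subtype.ext (map_add lam a b))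
      map_smul' := fun r a => Subtype.ext (Subtype.ext (map_smul lam r a)) }
  let ρ : Z →ₗ[R] K.homology (n + 1) := LC.classOf K (n + 1) ∘ₗ c
  have hfin : Module.Finite R (K.homology (n + 1)) := by
    refine ⟨?_⟩
    convert hG.map ρ
    refine (eq_top_iff.2 fun x _ => ?_).symm
    obtain ⟨⟨⟨w, hw⟩, hdw⟩, rfl⟩ := LC.classOf_surjective K (n + 1) x
    obtain ⟨z, rfl⟩ := hall w hw (congrArg Subtype.val hdw)
    obtain ⟨g, hg, y, hy, hyz⟩ := hb z
    refine ⟨g, hg, (sub_eq_zero.1 ?_).symm⟩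
    show ρ z - ρ g = 0
    rw [← map_sub]
    exact classOf_eq_zero_of K n _ (⟨y, hy⟩ : DRing.torsionSub J (Q.cocomplex.X n)) (Subtype.ext hyz)
  exact Module.Finite.equiv (LC.equivG J Q (n + 1)).symm

/-- Local cohomology in degree `n + 1` is finite if the cocycles of `Γ_J` of the total complex are finite
modulo boundaries. -/
theorem finite_H_succ [IsNoetherianRing R] (n : ℕ) (G : Submodule R (Fam R (DD P) (WW J))) (hG : G.FG)
    (hle : G ≤ Fil (dd P) (dW J) (n + 1) 0)
    (htop : Fil (dd P) (dW J) (n + 1) 0 ≤ G ⊔ Bnd (dd P) (dW J) (n + 1)) :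
    Module.Finite R ((localCohomology J (n + 1)).obj (ModuleCat.of R M)) := by
  let Z := Fil (dd P) (dW J) (n + 1) 0 (W := WW J)
  let lam : ↥Z →ₗ[R] (resM P).cocomplex.X (n + 1) :=
    { toFun := fun z => (⟨inclF P J z.1, inclF_mem P J ((mem_Fil _ _).1 z.2).1⟩ : ↥(CC P (n + 1)))
      map_add' := fun y z => Subtype.ext (map_add (inclF P J) y.1 z.1)
      map_smul' := fun r z => Subtype.ext (map_smul (inclF P J) r z.1) }
  have hd : ∀ k, (resM P).cocomplex.d k (k + 1) = dX P k := KX_d P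
  refine finite_H_of_cycles J (resM P) n (G.comap Z.subtype)
    (comap_fg_of_injective _ (Submodule.injective_subtype Z) hG) lam
    (fun z => inclF_torsion P J (n + 1) z.1 ((mem_Fil _ _).1 z.2).1) (fun z => ?_) ?_ ?_
  · rw [hd]
    refine Subtype.ext ?_
    show dTot P (inclF P J z.1) = 0
    rw [← inclF_dT, ((mem_Fil _ _).1 z.2).2.1, map_zero]
  · intro x ⟨k, hk⟩ hx
    rw [hd] at hx
    let x' : ↥(CC P (n + 1)) := x
    let w : Fam R (DD P) (WW J) := fun q l => (x'.1 q l).codRestrict _ fun v => ⟨k, fun a ha => by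
      have h1 : a • x' = 0 := hk a ha
      have h2 : a • x'.1 q l = 0 := congrFun (congrFun (congrArg Subtype.val h1) q) l
      exact LinearMap.congr_fun h2 v⟩
    have hw : w ∈ Cdeg R (DD P) (WW J) 0 (n + 1) := fun q l hl =>
      LinearMap.ext fun v => Subtype.ext (LinearMap.congr_fun (x'.2 q l hl) v)
    refine ⟨⟨w, (mem_Fil _ _).2 ⟨hw, ?_, fun q l hq => absurd hq (Nat.not_lt_zero q)⟩⟩, rfl⟩
    have h1 : inclF P J (dT (dd P) (dW J) w) = inclF P J 0 := by
      rw [inclF_dT, map_zero]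
      exact congrArg Subtype.val hx
    funext q l
    exact LinearMap.ext fun v => Subtype.ext (LinearMap.congr_fun (congrFun (congrFun h1 q) l) v)
  · rintro ⟨z, hz⟩
    obtain ⟨g, hg, b, ⟨w, hw, rfl⟩, hgb⟩ := Submodule.mem_sup.1 (htop hz)
    refine ⟨⟨g, hle hg⟩, hg, ?_⟩
    have hw' : w ∈ Cdeg R (DD P) (WW J) 0 n := by
      rw [cdeg_congr (show 0 + (n + 1) = 1 + n by omega)]
      exact hw
    let y₀ : ↥(CC P n) := ⟨inclF P J w, inclF_mem P J hw'⟩
    have hy : (dCC P n y₀).1 = inclF P J (z - g) := by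
      rw [← hgb, add_sub_cancel_left, inclF_dT]; rfl
    have ht := inclF_torsion P J n w hw'
    rcases n with _ | k
    · exact ⟨(B0 P).mkQ y₀, DRing.map_mem_torsionSub J (B0 P).mkQ ht, by rw [hd]; exact Subtype.ext hy⟩
    · exact ⟨y₀, ht, by rw [hd]; exact Subtype.ext hy⟩

/-- The torsion part of the cohomology of the dual complex. -/
abbrev EE (q : ℕ) : Type u := ↥((ZZ P J q).map (BB P q).mkQ)

noncomputable instance addCommGroupEE (q : ℕ) : AddCommGroup (EE P J q) := Submodule.addCommGroup _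

noncomputable instance moduleEE (q : ℕ) : Module R (EE P J q) := Submodule.module _

/-- The projection onto it. -/
noncomputable def prE (q : ℕ) : ↥(ZZ P J q) →ₗ[R] EE P J q := (BB P q).mkQ.submoduleMap (ZZ P J q)

lemma prE_surjective (q : ℕ) : Function.Surjective (prE P J q) :=
  (BB P q).mkQ.submoduleMap_surjective _

lemma prE_eq_zero_iff (q : ℕ) (x : ↥(ZZ P J q)) : prE P J q x = 0 ↔ (x : DD P q) ∈ BB P q :=
  Subtype.ext_iff.trans (Submodule.Quotient.mk_eq_zero (BB P q))

/-- `H^{n+1}_J(M)` is finite if nothing outside the torsion part of the dual cohomology maps to the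
resolution. -/
theorem finite_H_of_vanish [IsNoetherianRing R] (n : ℕ)
    (hvan : ∀ q, ∀ φ : DD P q →ₗ[R] WW J (n + 1 + q), (∀ x ∈ ZZ P J q, φ x = 0) →
      ∀ x ∈ LinearMap.ker (dd P q), φ x = 0) :
    Module.Finite R ((localCohomology J (n + 1)).obj (ModuleCat.of R M)) := by
  obtain ⟨G, hG, hle, htop⟩ := exists_fg_fil (dd P) (dW J) (dd_dd P) (dW_dW J) P.len
    (fun _ => subsingleton_DD P) (ZZ P J) (EE P J) (prE P J) (prE_surjective P J)
    (fun p x => (prE_eq_zero_iff P J _ x).trans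
      ⟨fun ⟨y, hy⟩ => ⟨y, hy.symm⟩, fun ⟨y, hy⟩ => ⟨y, hy.symm⟩⟩)
    (fun x hx => (Submodule.mem_bot R).1 ((prE_eq_zero_iff P J 0 x).1 hx))
    (fun q x hx => hx.1) (fun q => BB_le_ZZ P J (q + 1))
    (fun q t => by
      have : IsNoetherian R (DD P q) := isNoetherian_of_isNoetherianRing_of_finite R _
      have : Module.Finite R (EE P J q) := Module.Finite.map _ _
      obtain ⟨m, hm⟩ := LC.exists_pow_smul_eq_zero_of_finite J (EE P J q) (by
        rintro ⟨_, x, hx, rfl⟩
        obtain ⟨k, hk⟩ := ((mem_ZZ P J).1 hx).2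
        exact ⟨k, fun a ha => Subtype.ext ((map_smul (BB P q).mkQ a x).symm.trans
          ((Submodule.Quotient.mk_eq_zero _).2 (hk a ha)))⟩)
      exact exists_fg_cocycles_torsion J t (EE P J q) m hm)
    (i := n + 1) hvan (P.len + 1) 0 (by omega)
  exact finite_H_succ P J n G hG hle htop

end Groth.Agent.GrLib8.OneDeg
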