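import Groth.Agent.LC.InjNoeth
import Groth.Agent.LC.InjBasic
import Groth.Agent.LC.GorHull
import Groth.Agent.LC.GorLoc
import Groth.Agent.LC.GorRows
import Groth.Agent.LC.Depth
import Mathlib.RingTheory.RegularLocalRing.Defs

/-!
The minimal injective resolution of a ring; over a regular ring its `t`-th term only has associated
primes of height `t`.
-/

namespace Groth.Agent.GrLib8.OneDeg

open CategoryTheory Groth.Agent

universe u

variable (R : Type u) [CommRing R]

/-- A chosen injective hull. -/
structure HullData (M : ModuleCat.{u} R) : Type (u + 1) where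
  /-- the hull -/
  E : ModuleCat.{u} R
  /-- the embedding -/
  f : M →ₗ[R] E
  hull : InjHull.IsInjectiveHull f

/-- The chosen hull. -/
noncomputable def hullData (M : ModuleCat.{u} R) : HullData R M :=
  Classical.choice (by
    obtain ⟨E, i1, i2, f, hf⟩ := LC.exists_injectiveHull R M
    exact ⟨⟨ModuleCat.of R E, f, hf⟩⟩)

/-- The cosyzygies of `R`. -/
noncomputable def cosyzR : ℕ → ModuleCat.{u} R
  | 0 => ModuleCat.of R R
  | t + 1 => ModuleCat.of R ((hullData R (cosyzR t)).E ⧸ LinearMap.range (hullData R (cosyzR t)).f)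

/-- The terms of the minimal injective resolution. -/
noncomputable def Jt (t : ℕ) : ModuleCat.{u} R := (hullData R (cosyzR R t)).E

/-- The inclusion of a cosyzygy. -/
noncomputable def emb (t : ℕ) : cosyzR R t →ₗ[R] Jt R t := (hullData R (cosyzR R t)).f

/-- The projection to the next cosyzygy. -/
noncomputable def proJ (t : ℕ) : Jt R t →ₗ[R] cosyzR R (t + 1) := (LinearMap.range (emb R t)).mkQ

/-- The differential. -/
noncomputable def dJ (t : ℕ) : Jt R t →ₗ[R] Jt R (t + 1) := emb R (t + 1) ∘ₗ proJ R t

lemma emb_injective (t : ℕ) : Function.Injective (emb R t) :=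
  (hullData R (cosyzR R t)).hull.injective

lemma proJ_surjective (t : ℕ) : Function.Surjective (proJ R t) := Submodule.mkQ_surjective _

lemma proJ_eq_zero_iff (t : ℕ) (x : Jt R t) : proJ R t x = 0 ↔ x ∈ LinearMap.range (emb R t) :=
  Submodule.Quotient.mk_eq_zero _

instance injective_Jt (t : ℕ) : Module.Injective R (Jt R t) :=
  (hullData R (cosyzR R t)).hull.isInjective

lemma dJ_dJ (t : ℕ) : dJ R (t + 1) ∘ₗ dJ R t = 0 := by
  refine LinearMap.ext fun x => ?_
  show emb R (t + 2) (proJ R (t + 1) (emb R (t + 1) _)) = 0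
  rw [(proJ_eq_zero_iff R (t + 1) _).2 ⟨_, rfl⟩, map_zero]

lemma dJ_exact (t : ℕ) (x : Jt R (t + 1)) (hx : dJ R (t + 1) x = 0) : ∃ y, dJ R t y = x := by
  have h : proJ R (t + 1) x = 0 := emb_injective R (t + 2) (hx.trans (map_zero _).symm)
  obtain ⟨w, rfl⟩ := (proJ_eq_zero_iff R (t + 1) x).1 h
  obtain ⟨y, rfl⟩ := proJ_surjective R t w
  exact ⟨y, rfl⟩

/-- The augmentation. -/
noncomputable def augJ : R →ₗ[R] Jt R 0 := emb R 0

lemma dJ_zero_iff (x : Jt R 0) : dJ R 0 x = 0 ↔ ∃ r : R, augJ R r = x := by
  constructor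
  · intro hx
    exact (proJ_eq_zero_iff R 0 x).1 (emb_injective R 1 (hx.trans (map_zero _).symm))
  · rintro ⟨r, rfl⟩
    show emb R 1 (proJ R 0 (emb R 0 r)) = 0
    rw [(proJ_eq_zero_iff R 0 _).2 ⟨r, rfl⟩, map_zero]

section Local

variable [IsNoetherianRing R] (P : Ideal R) [P.IsPrime]

/-- An element with annihilator `P` gives a nonzero map from the residue field at `P`. -/
lemma exists_hom_residue (M : Type u) [AddCommGroup M] [Module R M] (m : M)
    (hm : ∀ r : R, r • m = 0 ↔ r ∈ P) :
    ∃ φ : (Localization.AtPrime P ⧸ IsLocalRing.maximalIdeal (Localization.AtPrime P))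
      →ₗ[Localization.AtPrime P] LocalizedModule P.primeCompl M, φ ≠ 0 := by
  let A := Localization.AtPrime P
  let m' : LocalizedModule P.primeCompl M := LocalizedModule.mkLinearMap P.primeCompl M m
  have hm' : m' ≠ 0 := fun h => by
    obtain ⟨s, hs⟩ := (IsLocalizedModule.eq_zero_iff P.primeCompl _).1 h
    exact s.2 ((hm s.1).1 hs)
  have hle : IsLocalRing.maximalIdeal A ≤ LinearMap.ker (LinearMap.toSpanSingleton A _ m') := by
    rw [← Localization.AtPrime.map_eq_maximalIdeal, Ideal.map_le_iff_le_comap]
    intro r hr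
    show algebraMap R A r • m' = 0
    rw [algebraMap_smul, ← map_smul, (hm r).2 hr, map_zero]
  refine ⟨(IsLocalRing.maximalIdeal A).liftQ _ hle, fun h => hm' ?_⟩
  have := LinearMap.congr_fun h (Submodule.Quotient.mk (1 : A))
  rw [LinearMap.zero_apply, Submodule.liftQ_apply, LinearMap.toSpanSingleton_apply, one_smul] at this
  exact this

variable [IsRegularRing R]

/-- The associated primes of the `t`-th cosyzygy have height `t`. -/
theorem height_eq_of_annihilator (t : ℕ) (m : cosyzR R t) (hm : ∀ r : R, r • m = 0 ↔ r ∈ P) :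
    P.height = t := by
  let A := Localization.AtPrime P
  haveI : IsNoetherianRing A := IsLocalization.isNoetherianRing P.primeCompl A inferInstance
  haveI : IsRegularLocalRing A := IsRegularRing.isRegularLocalRing_localization P
  haveI := LC.gorenstein_of_isRegularLocalRing (R := A)
  let k : ModuleCat.{u} A := ModuleCat.of A (A ⧸ IsLocalRing.maximalIdeal A)
  let L : ℕ → ModuleCat.{u} A := fun s =>
    ModuleCat.of A (LocalizedModule P.primeCompl (cosyzR R s))
  -- connecting maps are injective
  have step : ∀ (j s : ℕ), Nontrivial (Abelian.Ext k (L (s + 1)) j) →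
      Nontrivial (Abelian.Ext k (L s) (j + 1)) := by
    intro j s hnt
    let f : L s ⟶ ModuleCat.of A (LocalizedModule P.primeCompl (Jt R s)) :=
      ModuleCat.ofHom (LocalizedModule.map P.primeCompl (emb R s))
    let g : ModuleCat.of A (LocalizedModule P.primeCompl (Jt R s)) ⟶ L (s + 1) :=
      ModuleCat.ofHom (LocalizedModule.map P.primeCompl (proJ R s))
    have hex : Function.Exact f.hom g.hom :=
      LocalizedModule.map_exact P.primeCompl (emb R s) (proJ R s)
        (fun x => proJ_eq_zero_iff R s x)
    let S : ShortComplex (ModuleCat.{u} A) :=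
      ShortComplex.mk f g (ModuleCat.hom_ext (LinearMap.ext hex.apply_apply_eq_zero))
    have hS : S.ShortExact :=
      { exact := (ShortComplex.ShortExact.moduleCat_exact_iff_function_exact _).2 hex
        mono_f := (ModuleCat.mono_iff_injective _).2
          (LocalizedModule.map_injective P.primeCompl _ (emb_injective R s))
        epi_g := (ModuleCat.epi_iff_surjective _).2
          (LocalizedModule.map_surjective P.primeCompl _ (proJ_surjective R s)) }
    have hhull : InjHull.IsInjectiveHull (LocalizedModule.map P.primeCompl (emb R s)) :=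
      LC.isInjectiveHull_localizedMap P.primeCompl (hullData R (cosyzR R s)).hull
    haveI : Module.Injective A (LocalizedModule P.primeCompl (Jt R s)) := hhull.isInjective
    haveI : Injective S.X₂ := Module.injective_object_of_injective_module A _
    obtain ⟨x, hx⟩ := exists_ne (0 : Abelian.Ext k (L (s + 1)) j)
    by_contra hsub
    rw [not_nontrivial_iff_subsingleton] at hsub
    obtain ⟨y, rfl⟩ := Abelian.Ext.covariant_sequence_exact₃ k hS x rfl (Subsingleton.elim _ _)
    rcases j with _ | j
    · obtain ⟨φ, rfl⟩ := Abelian.Ext.addEquiv₀.symm.surjective y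
      refine hx ?_
      have hφ : φ ≫ g = 0 := by
        refine ModuleCat.hom_ext (LinearMap.ext fun c => ?_)
        obtain ⟨c, rfl⟩ := Submodule.Quotient.mk_surjective _ c
        have hc : (Submodule.Quotient.mk c : A ⧸ IsLocalRing.maximalIdeal A) =
            c • Submodule.Quotient.mk (1 : A) := by
          rw [← Submodule.Quotient.mk_smul, smul_eq_mul, mul_one]
        show g.hom (φ.hom (Submodule.Quotient.mk c)) = 0
        rw [hc, map_smul, map_smul]
        let φ' : (A ⧸ IsLocalRing.maximalIdeal A) →ₗ[A] LocalizedModule P.primeCompl (Jt R s) := φ.hom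
        let g' : LocalizedModule P.primeCompl (Jt R s) →ₗ[A] LocalizedModule P.primeCompl (cosyzR R (s + 1)) :=
          LocalizedModule.map P.primeCompl (proJ R s)
        show c • g' (φ' (Submodule.Quotient.mk (1 : A))) = 0
        set e := φ' (Submodule.Quotient.mk (1 : A)) with he
        by_cases he0 : e = 0
        · rw [he0, map_zero, smul_zero]
        obtain ⟨r, ⟨w, hw⟩, hr⟩ := (LC.isEssentialInj_iff.1 hhull.toIsEssentialInj).2 e he0
        have hru : IsUnit r := by
          by_contra hnu
          refine hr ?_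
          rw [he, ← map_smul, ← Submodule.Quotient.mk_smul, smul_eq_mul, mul_one,
            (Submodule.Quotient.mk_eq_zero _).2 ((IsLocalRing.mem_maximalIdeal r).2 hnu), map_zero]
        obtain ⟨r', hr'⟩ := hru.exists_left_inv
        have : e = LocalizedModule.map P.primeCompl (emb R s) (r' • w) := by
          rw [map_smul, hw, smul_smul, hr', one_smul]
        rw [this, show g' (LocalizedModule.map P.primeCompl (emb R s) (r' • w)) = 0 from
          hex.apply_apply_eq_zero _, smul_zero]
      simp only [Abelian.Ext.addEquiv₀_symm_apply, Abelian.Ext.mk₀_comp_mk₀, S]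
      rw [hφ, Abelian.Ext.mk₀_zero]
    · exact hx (by rw [Abelian.Ext.eq_zero_of_injective y, Abelian.Ext.zero_comp])
  have key : ∀ (s j : ℕ), Nontrivial (Abelian.Ext k (L s) j) → Nontrivial (Abelian.Ext k (L 0) (j + s)) := by
    intro s
    induction s with
    | zero => intro j h; exact h
    | succ s ih =>
      intro j h
      rw [show j + (s + 1) = j + 1 + s by omega]
      exact ih (j + 1) (step j s h)
  have h0 : Nontrivial (Abelian.Ext k (L t) 0) := by
    obtain ⟨φ, hφ⟩ := exists_hom_residue R P (cosyzR R t) m hm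
    refine ⟨⟨Abelian.Ext.addEquiv₀.symm (ModuleCat.ofHom φ), 0, fun h => hφ ?_⟩⟩
    rw [← map_zero Abelian.Ext.addEquiv₀.symm] at h
    exact congrArg ModuleCat.Hom.hom (Abelian.Ext.addEquiv₀.symm.injective h)
  have ht := key t 0 h0
  rw [zero_add] at ht
  let eA : LocalizedModule P.primeCompl R ≃ₗ[A] A := LC.selfLoc P.primeCompl
  have htA : Nontrivial (Abelian.Ext k (ModuleCat.of A A) t) := by
    by_contra hc
    rw [not_nontrivial_iff_subsingleton] at hc
    obtain ⟨x, hx⟩ := exists_ne (0 : Abelian.Ext k (L 0) t)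
    refine hx ?_
    let i : L 0 ≅ ModuleCat.of A A := eA.toModuleIso
    rw [← Abelian.Ext.comp_mk₀_id x, ← i.hom_inv_id, ← Abelian.Ext.mk₀_comp_mk₀,
      ← Abelian.Ext.comp_assoc_of_second_deg_zero, Subsingleton.elim (x.comp _ _) 0,
      Abelian.Ext.zero_comp]
  obtain ⟨d, hd, hδ, hv⟩ := LC.gorenstein_basic (R := A)
  rw [IsLocalization.AtPrime.ringKrullDim_eq_height P A] at hd
  have hd' : P.height = d := by exact_mod_cast hd
  rw [hd']
  rcases lt_trichotomy t d with hlt | rfl | hgt
  · exfalso
    have := (LC.le_idealDepth_iff_ext (IsLocalRing.maximalIdeal A) A d).1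
      (le_of_eq (by rw [show LocCoh.idealDepth (IsLocalRing.maximalIdeal A) A = LocCoh.depth A A from rfl, hδ]))
      t hlt
    exact not_nontrivial _ htA
  · rfl
  · exfalso
    have := hv (A ⧸ IsLocalRing.maximalIdeal A) t hgt
    exact not_nontrivial _ htA

omit [P.IsPrime] in
/-- Associated primes of the `t`-th term have height `t`. -/
theorem height_eq_of_annihilator_Jt [P.IsPrime] (t : ℕ) (y : Jt R t) (hy : ∀ r : R, r • y = 0 ↔ r ∈ P) :
    P.height = t := by
  have hy0 : y ≠ 0 := fun h => ‹P.IsPrime›.ne_top ((Ideal.eq_top_iff_one P).2 ((hy 1).1 (by rw [h, smul_zero])))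
  obtain ⟨r, ⟨m, hm⟩, hr⟩ := (LC.isEssentialInj_iff.1
    (hullData R (cosyzR R t)).hull.toIsEssentialInj).2 y hy0
  have hrP : r ∉ P := fun h => hr ((hy r).2 h)
  have hm' : emb R t m = r • y := hm
  refine height_eq_of_annihilator R P t m fun s => ⟨fun h => ?_, fun h => ?_⟩
  · have h1 : (s * r) • y = 0 := by
      rw [mul_smul, ← hm', ← map_smul, h, map_zero]
    exact (‹P.IsPrime›.mem_or_mem ((hy _).1 h1)).resolve_right hrP
  · refine emb_injective R t ?_
    rw [map_smul, map_zero]
    rw [hm', smul_comm, (hy s).2 h, smul_zero]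

end Local

end Groth.Agent.GrLib8.OneDeg
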