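import Groth.Agent.GrLib8.OneDeg.Res
import Groth.Agent.GrLib8.OneDeg.MinInj
import Groth.Agent.LC.DualLocal
import Groth.Agent.LC.FiniteCrit
import Groth.Agent.LC.CodimPropagate
import Groth.Prelude.Def_DRing3
import Mathlib.RingTheory.Ideal.AssociatedPrime.Localization

/-!
The vanishing which is equivalent to the hypothesis at the primes of relative codimension one.
-/

namespace Groth.Agent.GrLib8.OneDeg

open CategoryTheory IsLocalRing Groth.Agent

universe u

section Kill

variable (R : Type u) [CommRing R] [IsRegularRing R] (M : Type u) [AddCommGroup M] [Module R M]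
  [Module.Finite R M]

/-- Local duality: where the local cohomology vanishes, `Ext` is killed away from the prime. -/
theorem exists_smul_ext_eq_zero (P : Ideal R) [P.IsPrime] (q : ℕ)
    (hq : ∀ j : ℕ, ((j + q : ℕ) : ℕ∞) = P.height →
      Subsingleton (LocCoh.H (maximalIdeal (Localization.AtPrime P)) j (LocalizedModule P.primeCompl M))) :
    ∃ s ∉ P, ∀ x : Abelian.Ext (ModuleCat.of R M) (ModuleCat.of R R) q, s • x = 0 := by
  let A := Localization.AtPrime P
  have : IsNoetherianRing A := IsLocalization.isNoetherianRing P.primeCompl A inferInstance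
  have : IsRegularLocalRing A := IsRegularRing.isRegularLocalRing_localization P
  have := LC.gorenstein_of_isRegularLocalRing (R := A)
  have : Module.Finite A (LocalizedModule P.primeCompl M) :=
    Module.Finite.of_isLocalizedModule P.primeCompl (LocalizedModule.mkLinearMap P.primeCompl M)
  obtain ⟨d, hd, -, hv⟩ := LC.gorenstein_basic (R := A)
  have hdP : P.height = d := by
    rw [IsLocalization.AtPrime.ringKrullDim_eq_height P A] at hd
    exact_mod_cast hd
  let X := Abelian.Ext (ModuleCat.of R M) (ModuleCat.of R R) q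
  have hfin : Module.Finite R X :=
    inferInstanceAs (Module.Finite R (Abelian.Ext (ModuleCat.of R M) (ModuleCat.of R R) q))
  have hsub : Subsingleton (Abelian.Ext (ModuleCat.of A (LocalizedModule P.primeCompl M))
      (ModuleCat.of A A) q) := by
    rcases lt_or_ge d q with hlt | hge
    · exact hv _ q hlt
    · obtain ⟨E, _, _, f, hf⟩ := LC.exists_injectiveHull A (ResidueField A)
      obtain ⟨χ⟩ := LC.exists_localDuality_gorenstein d hd E hf (LocalizedModule P.primeCompl M) q (d - q)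
        (by omega)
      rw [← LC.subsingleton_iff_dual hf, ← χ.toEquiv.subsingleton_congr]
      exact hq (d - q) (by rw [hdP]; exact congrArg Nat.cast (by omega))
  obtain ⟨ψ⟩ := LC.exists_extLoc_ring P.primeCompl M q
  have h0 : Subsingleton (LocalizedModule P.primeCompl X) := ψ.toEquiv.subsingleton
  have hns : (⟨P, inferInstance⟩ : PrimeSpectrum R) ∉ Module.support R X :=
    Module.notMem_support_iff.2 h0
  rw [Module.support_eq_zeroLocus] at hns
  obtain ⟨s, hs, hsP⟩ := Set.not_subset.1 hns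
  exact ⟨s, hsP, fun x => Module.mem_annihilator.1 hs x⟩

end Kill

variable {R : Type u} [CommRing R] {M : Type u} [AddCommGroup M] [Module R M] (P : FRes R M)

/-- The dual of the resolution. -/
abbrev DD (q : ℕ) : Type u := P.F q →ₗ[R] R

/-- The differential of the dual. -/
noncomputable def dd (q : ℕ) : DD P q →ₗ[R] DD P (q + 1) := LinearMap.lcomp R R (P.d q)

lemma dd_apply (q : ℕ) (φ : DD P q) : dd P q φ = φ ∘ₗ P.d q := rfl

lemma dd_dd (q : ℕ) : dd P (q + 1) ∘ₗ dd P q = 0 :=
  LinearMap.ext fun φ => LinearMap.ext fun x => by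
    show φ (P.d q (P.d (q + 1) x)) = 0
    rw [(P.exact q).apply_apply_eq_zero, map_zero]

/-- The boundaries of the dual. -/
noncomputable def BB : ∀ q, Submodule R (DD P q)
  | 0 => ⊥
  | q + 1 => LinearMap.range (dd P q)

lemma BB_le_ker : ∀ q, BB P q ≤ LinearMap.ker (dd P q)
  | 0 => bot_le
  | q + 1 => by
    rintro _ ⟨y, rfl⟩
    exact LinearMap.congr_fun (dd_dd P q) y

theorem smul_mem_BB (q : ℕ) (s : R)
    (hs : ∀ x : Abelian.Ext (ModuleCat.of R M) (ModuleCat.of R R) q, s • x = 0)
    (φ : DD P q) (hφ : dd P q φ = 0) : s • φ ∈ BB P q := by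
  rcases q with _ | q
  · exact (Submodule.mem_bot R).2 (smul_cocycle_zero P s hs φ hφ)
  · exact smul_cocycle_succ q P s hs φ hφ

variable (J : Ideal R)

/-- Cocycles moved to boundaries by a power of `J`. -/
noncomputable def ZZ (q : ℕ) : Submodule R (DD P q) :=
  LinearMap.ker (dd P q) ⊓ (DRing.torsionSub J (DD P q ⧸ BB P q)).comap (BB P q).mkQ

lemma mem_ZZ {q : ℕ} {φ : DD P q} : φ ∈ ZZ P J q ↔
    dd P q φ = 0 ∧ ∃ n, ∀ a ∈ J ^ n, a • φ ∈ BB P q :=
  and_congr_right fun _ => exists_congr fun n => forall₂_congr fun a _ => by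
    rw [← map_smul]; exact Submodule.Quotient.mk_eq_zero _

lemma BB_le_ZZ (q : ℕ) : BB P q ≤ ZZ P J q := fun φ hφ =>
  (mem_ZZ P J).2 ⟨BB_le_ker P q hφ, 0, fun a _ => Submodule.smul_mem _ a hφ⟩

/-- The terms `Γ_J J^t`. -/
abbrev WW (t : ℕ) : Type u := ↥(DRing.torsionSub J (Jt R t))

variable {A : Type u} [CommRing A] [Algebra R A] [Module A M] [IsScalarTower R A M]

include A in
lemma smul_ext_eq_zero_of_mem_ker {r : R} (hr : algebraMap R A r = 0) (q : ℕ)
    (x : Abelian.Ext (ModuleCat.of R M) (ModuleCat.of R R) q) : r • x = 0 := by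
  have h : r • 𝟙 (ModuleCat.of R M) = 0 := by
    refine ModuleCat.hom_ext (LinearMap.ext fun m => ?_)
    show r • m = 0
    rw [← algebraMap_smul A r m, hr, zero_smul]
  have e : r • x = (Abelian.Ext.mk₀ (r • 𝟙 (ModuleCat.of R M))).comp x (zero_add q) := by
    rw [Abelian.Ext.mk₀_smul, Abelian.Ext.smul_comp, Abelian.Ext.mk₀_id_comp]
  rw [e, h, Abelian.Ext.mk₀_zero, Abelian.Ext.zero_comp]

/-- The key vanishing. -/
theorem hom_vanish [IsRegularRing R] [Module.Finite R M] [IsNoetherianRing A]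
    (hπ : Function.Surjective (algebraMap R A)) (I : Ideal A) (i : ℕ)
    (h : ∀ p : PrimeSpectrum A, ¬ I ≤ p.asIdeal → ∀ (c j : ℕ), SGA2.relCodim I p = c → j + c = i →
      Subsingleton (LocCoh.H (maximalIdeal (Localization.AtPrime p.asIdeal)) j
        (LocalizedModule p.asIdeal.primeCompl M)))
    (q : ℕ) (φ : DD P q →ₗ[R] WW (I.comap (algebraMap R A)) (i + q))
    (hφ : ∀ x ∈ ZZ P (I.comap (algebraMap R A)) q, φ x = 0) :
    ∀ x ∈ LinearMap.ker (dd P q), φ x = 0 := by
  intro x hx
  by_contra hne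
  -- a multiple with prime annihilator
  obtain ⟨Q, hQass, -⟩ :=
    exists_le_isAssociatedPrime_of_isNoetherianRing R (⟨φ x, Submodule.mem_span_singleton_self _⟩ :
      Submodule.span R {φ x}) (fun hc => hne (congrArg Subtype.val hc))
  obtain ⟨hQ, ⟨y, hy⟩, hQy⟩ := isAssociatedPrime_iff.1 hQass
  obtain ⟨r, rfl⟩ := Submodule.mem_span_singleton.1 hy
  let x₀ : DD P q := r • x
  have hx₀ : x₀ ∈ LinearMap.ker (dd P q) := Submodule.smul_mem _ r hx
  have hann : ∀ a : R, a • φ x₀ = 0 ↔ a ∈ Q := fun a => by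
    rw [hQy, Submodule.mem_colon_singleton, Submodule.mem_bot, map_smul]
    exact ⟨fun hc => Subtype.ext hc, fun hc => congrArg Subtype.val hc⟩
  have hQht : Q.height = (i + q : ℕ) := height_eq_of_annihilator_Jt R Q (i + q) (φ x₀).1 fun a => by
    rw [← hann a, Subtype.ext_iff]
    rfl
  have hI'Q : (I.comap (algebraMap R A)) ≤ Q := by
    obtain ⟨n, hn⟩ := (φ x₀).2
    exact Ideal.IsPrime.le_of_pow_le (hP := hQ) (n := n) (fun a ha => (hann a).1 (Subtype.ext (hn a ha)))
  -- an associated prime not containing `(I.comap (algebraMap R A))`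
  let z : DD P q ⧸ ZZ P (I.comap (algebraMap R A)) q := (ZZ P (I.comap (algebraMap R A)) q).mkQ x₀
  have hzero : ∀ a : R, a • z = 0 ↔ a • x₀ ∈ ZZ P (I.comap (algebraMap R A)) q := fun a => by
    rw [← map_smul]
    exact Submodule.Quotient.mk_eq_zero _
  let N := Submodule.span R {z}
  have hNQ : Module.annihilator R N ≤ Q := fun a ha => by
    refine (hann a).1 ?_
    rw [← map_smul]
    refine hφ _ ((hzero a).1 ?_)
    exact congrArg Subtype.val
      (Module.mem_annihilator.1 ha (⟨z, Submodule.mem_span_singleton_self z⟩ : N))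
  obtain ⟨p, hp, hpQ⟩ := Ideal.exists_minimalPrimes_le hNQ
  obtain ⟨hpp, ⟨⟨w₁, hw₁⟩, hpw⟩⟩ := isAssociatedPrime_iff.1
    (Module.associatedPrimes.minimalPrimes_annihilator_subset_associatedPrimes R N hp)
  have hpI : ¬ (I.comap (algebraMap R A)) ≤ p := by
    intro hle
    obtain ⟨t, rfl⟩ := Submodule.mem_span_singleton.1 hw₁
    let v : DD P q := t • x₀
    have hv : dd P q v = 0 := Submodule.smul_mem (LinearMap.ker (dd P q)) t hx₀
    have hve : (ZZ P (I.comap (algebraMap R A)) q).mkQ v = t • z := map_smul _ _ _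
    refine hpp.ne_top ((Ideal.eq_top_iff_one p).2 ?_)
    rw [hpw, Submodule.mem_colon_singleton, Submodule.mem_bot, one_smul]
    refine Subtype.ext ?_
    show t • z = 0
    rw [← hve, Submodule.mkQ_apply, Submodule.Quotient.mk_eq_zero]
    refine (mem_ZZ P (I.comap (algebraMap R A))).2 ⟨hv, ?_⟩
    have hkill : ∀ a ∈ (I.comap (algebraMap R A)), a • v ∈ ZZ P (I.comap (algebraMap R A)) q := fun a ha => by
      have h1 : a ∈ p := hle ha
      rw [hpw, Submodule.mem_colon_singleton, Submodule.mem_bot, Subtype.ext_iff] at h1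
      have h2 : a • t • z = 0 := h1
      rw [← hve, ← map_smul, Submodule.mkQ_apply, Submodule.Quotient.mk_eq_zero] at h2
      exact h2
    obtain ⟨s, hs⟩ := (I.comap (algebraMap R A)).fg_of_isNoetherianRing
    have hex : ∀ a : R, a ∈ s → ∃ n, ∀ b ∈ (I.comap (algebraMap R A)) ^ n, b • a • v ∈ BB P q := fun a ha =>
      ((mem_ZZ P (I.comap (algebraMap R A))).1 (hkill a (hs ▸ Submodule.subset_span ha))).2
    choose! n hn using hex
    refine ⟨s.sup n + 1, fun b hb => ?_⟩
    rw [pow_succ] at hb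
    refine Submodule.mul_induction_on hb (fun c hc a ha => ?_) fun c c' hc hc' => by
      rw [add_smul]; exact Submodule.add_mem _ hc hc'
    rw [← hs] at ha
    refine Submodule.span_induction (fun e he => ?_) ?_ (fun e e' _ _ h1 h2 => ?_) (fun t e _ h1 => ?_) ha
    · rw [mul_smul]
      exact hn e he c (Ideal.pow_le_pow_right (Finset.le_sup he) hc)
    · rw [mul_zero, zero_smul]; exact Submodule.zero_mem _
    · rw [mul_add, add_smul]; exact Submodule.add_mem _ h1 h2
    · rw [smul_eq_mul, mul_left_comm, mul_smul]; exact Submodule.smul_mem _ t h1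
  -- a prime just below `Q`
  let T : Set (Ideal R) := {s : Ideal R | s.IsPrime ∧ p ≤ s ∧ s ≤ Q ∧ ¬ (I.comap (algebraMap R A)) ≤ s}
  have hex : ∃ s : Ideal R, s ∈ T ∧ ∀ t ∈ T, ¬ s < t :=
    set_has_maximal_iff_noetherian.2 (inferInstance : IsNoetherianRing R) T ⟨p, hpp, le_rfl, hpQ, hpI⟩
  obtain ⟨p', ⟨hp', hpp', hp'Q, hIp'⟩, hmax⟩ := hex
  have hlt : p' < Q := lt_of_le_of_ne hp'Q fun hc => hIp' (hc ▸ hI'Q)
  have hone : (Q.map (Ideal.Quotient.mk p')).height = 1 := by
    refine le_antisymm (not_lt.1 fun hc => ?_) (LC.one_le_height_map_mk p' Q hlt)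
    obtain ⟨c, hcI, hcp⟩ := SetLike.not_le_iff_exists.1 hIp'
    obtain ⟨u, hu, hsu, huQ, hcu⟩ := LC.exists_prime_between p' Q hlt hc (hI'Q hcI) hcp
    exact hmax u ⟨hu, hpp'.trans hsu.le, huQ.le, fun hIu => hcu (hIu hcI)⟩ hsu
  have hht : p'.height + 1 = (i + q : ℕ) := by
    rw [← hQht, ← LC.height_add_height_quotient_eq p' Q hlt.le, hone]
  have hannle : ∀ a : R, a • x₀ ∈ BB P q → a ∈ p' := fun a ha => hpp' (hp.1.2 (by
    rw [Module.mem_annihilator]
    rintro ⟨w, hw⟩
    obtain ⟨t, rfl⟩ := Submodule.mem_span_singleton.1 hw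
    refine Subtype.ext ?_
    show a • t • z = 0
    rw [smul_comm, (hzero a).2 (BB_le_ZZ P (I.comap (algebraMap R A)) q ha), smul_zero]))
  have hker : RingHom.ker (algebraMap R A) ≤ p' := fun a ha =>
    hannle a (smul_mem_BB P q a (fun e => smul_ext_eq_zero_of_mem_ker (A := A) ha q e) x₀ hx₀)
  have hcomap : ∀ s : Ideal R, RingHom.ker (algebraMap R A) ≤ s →
      (s.map (algebraMap R A)).comap (algebraMap R A) = s := fun s hs => by
    rw [Ideal.comap_map_of_surjective _ hπ, ← RingHom.ker_eq_comap_bot, sup_eq_left.2 hs]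
  let pA : PrimeSpectrum A := ⟨p'.map (algebraMap R A), Ideal.map_isPrime_of_surjective hπ hker⟩
  let QA : PrimeSpectrum A :=
    ⟨Q.map (algebraMap R A), Ideal.map_isPrime_of_surjective hπ (hker.trans hp'Q)⟩
  have hIpA : ¬ I ≤ pA.asIdeal := fun hle => hIp' (by
    rw [← hcomap p' hker]; exact Ideal.comap_mono hle)
  have hIQA : I ≤ QA.asIdeal := by
    show I ≤ Q.map (algebraMap R A)
    rw [← Ideal.map_comap_of_surjective _ hπ I]
    exact Ideal.map_mono hI'Q
  have hcov : pA ⋖ QA := by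
    refine ⟨lt_of_le_of_ne (Ideal.map_mono hp'Q) fun hc => hIpA (by rw [hc]; exact hIQA),
      fun t htp htQ => ?_⟩
    have hsur := Ideal.comap_injective_of_surjective _ hπ
    have e1 : p' < t.asIdeal.comap (algebraMap R A) := by
      refine lt_of_le_of_ne ((hcomap p' hker).ge.trans (Ideal.comap_mono htp.le)) fun hc => htp.ne ?_
      exact PrimeSpectrum.ext (hsur ((hcomap p' hker).trans hc))
    have e2 : t.asIdeal.comap (algebraMap R A) < Q := by
      refine lt_of_le_of_ne ((Ideal.comap_mono htQ.le).trans (hcomap Q (hker.trans hp'Q)).le) fun hc =>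
        htQ.ne ?_
      exact PrimeSpectrum.ext (hsur (hc.trans (hcomap Q (hker.trans hp'Q)).symm))
    have h2 := le_trans (add_le_add (LC.one_le_height_map_mk p' _ e1) (LC.one_le_height_map_mk _ Q e2))
      (LC.height_map_mk_add_le p' _ Q e1.le e2.le)
    rw [hone] at h2
    norm_num at h2
  have hc1 : SGA2.relCodim I pA = 1 := (LC.covBy_iff_relCodim I pA hIpA).1 ⟨QA, hIQA, hcov⟩
  have hpAprime : pA.asIdeal.IsPrime := pA.isPrime
  have hcprime : (pA.asIdeal.comap (algebraMap R A)).IsPrime := Ideal.IsPrime.comap _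
  obtain ⟨s, hs, hk⟩ := exists_smul_ext_eq_zero R M (pA.asIdeal.comap (algebraMap R A)) q fun j hj => by
    rw [LC.subsingleton_H_localized_comap hπ pA.asIdeal j]
    refine h pA hIpA 1 j (by rw [hc1, Nat.cast_one]) ?_
    rw [show pA.asIdeal.comap (algebraMap R A) = p' from hcomap p' hker] at hj
    rw [← hj] at hht
    have : j + q + 1 = i + q := by exact_mod_cast hht
    omega
  exact hs (by
    rw [show pA.asIdeal.comap (algebraMap R A) = p' from hcomap p' hker]
    exact hannle s (smul_mem_BB P q s hk x₀ hx₀))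

end Groth.Agent.GrLib8.OneDeg
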