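import Groth.Agent.GrLib8.OneDeg.TotHom
import Groth.Agent.GrLib8.OneDeg.Vanish
import Groth.Agent.LC.Finiteness

/-!
Cocycles of `Hom(E, J)` are finite modulo coboundaries.
-/

namespace Groth.Agent.GrLib8.OneDeg

open CategoryTheory Groth.Agent

universe u

variable {R : Type u} [CommRing R]

lemma comap_fg_of_injective [IsNoetherianRing R] {X Y : Type u} [AddCommGroup X] [Module R X]
    [AddCommGroup Y] [Module R Y] (f : X →ₗ[R] Y) (hf : Function.Injective f) {G : Submodule R Y}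
    (hG : G.FG) : (G.comap f).FG := by
  have : IsNoetherian R G := isNoetherian_of_fg_of_noetherian _ hG
  let g : ↥(G.comap f) →ₗ[R] ↥G := f.restrict fun x hx => hx
  have : IsNoetherian R ↥(G.comap f) := isNoetherian_of_injective g fun a b h =>
    Subtype.ext (hf (congrArg Subtype.val h))
  exact Module.Finite.iff_fg.1 inferInstance

lemma exists_fg_sup_ker [IsNoetherianRing R] {X Y : Type u} [AddCommGroup X] [Module R X]
    [AddCommGroup Y] [Module R Y] (P : Submodule R X) (f : X →ₗ[R] Y) {G : Submodule R Y}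
    (hG : G.FG) (h : P.map f ≤ G) :
    ∃ P₀ : Submodule R X, P₀.FG ∧ P₀ ≤ P ∧ P ≤ P₀ ⊔ LinearMap.ker f := by
  classical
  have : IsNoetherian R G := isNoetherian_of_fg_of_noetherian _ hG
  have h1 : (P.map f).FG := by
    have := (IsNoetherian.noetherian ((P.map f).comap G.subtype)).map G.subtype
    rwa [Submodule.map_comap_subtype, inf_eq_right.2 h] at this
  obtain ⟨s, hs⟩ := h1
  have hex : ∀ y : Y, y ∈ s → ∃ z ∈ P, f z = y := fun y hy => by
    have : y ∈ P.map f := hs ▸ Submodule.subset_span hy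
    exact this
  choose! g hgP hgf using hex
  refine ⟨Submodule.span R (s.image g : Set X), ⟨_, rfl⟩, Submodule.span_le.2 fun x hx => ?_,
    fun x hx => ?_⟩
  · obtain ⟨y, hy, rfl⟩ := Finset.mem_image.1 hx
    exact hgP y hy
  · have hfx : f x ∈ (Submodule.span R (s.image g : Set X)).map f := by
      have : f x ∈ Submodule.span R (s : Set Y) := hs.symm ▸ Submodule.mem_map_of_mem hx
      refine Submodule.span_le.2 (fun y hy => ?_) this
      exact ⟨g y, Submodule.subset_span (Finset.mem_image_of_mem g hy), hgf y hy⟩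
    obtain ⟨x₀, hx₀, hfx₀⟩ := hfx
    exact Submodule.mem_sup.2 ⟨x₀, hx₀, x - x₀, by
      rw [LinearMap.mem_ker, map_sub, hfx₀, sub_self], add_sub_cancel x₀ x⟩

variable [IsNoetherianRing R]

/-- Finiteness of `Ext^t(E, R)` in terms of the minimal injective resolution. -/
theorem exists_fg_cocycles : ∀ (t : ℕ) (E : Type u) [AddCommGroup E] [Module R E] [Module.Finite R E],
    ∃ G : Submodule R (E →ₗ[R] Jt R t), G.FG ∧
      ∀ φ : E →ₗ[R] Jt R t, dJ R t ∘ₗ φ = 0 → φ ∈ G ⊔ homBnd (dJ R) E t := by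
  intro t
  induction t with
  | zero =>
    intro E _ _ _
    let c : (E →ₗ[R] R) →ₗ[R] (E →ₗ[R] Jt R 0) :=
      { toFun := fun ψ => augJ R ∘ₗ ψ
        map_add' := fun a b => LinearMap.comp_add a b (augJ R)
        map_smul' := fun r a => LinearMap.comp_smul (augJ R) r a }
    refine ⟨LinearMap.range c, ?_, fun φ hφ => Submodule.mem_sup_left ?_⟩
    · rw [← Submodule.map_top]
      exact (IsNoetherian.noetherian _).map c
    · have h : ∀ x : E, φ x ∈ LinearMap.range (augJ R) := fun x =>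
        (dJ_zero_iff R (φ x)).1 (LinearMap.congr_fun hφ x)
      refine ⟨(LinearEquiv.ofInjective (augJ R) (emb_injective R 0)).symm.toLinearMap ∘ₗ
        φ.codRestrict _ h, LinearMap.ext fun x => ?_⟩
      show augJ R ((LinearEquiv.ofInjective (augJ R) (emb_injective R 0)).symm ⟨φ x, h x⟩) = φ x
      exact congrArg Subtype.val ((LinearEquiv.ofInjective (augJ R) (emb_injective R 0)).apply_symm_apply ⟨φ x, h x⟩)
  | succ t ih =>
    intro E _ _ _
    obtain ⟨k, g, hg⟩ := Module.Finite.exists_fin' R E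
    obtain ⟨GK, hGK, hGKtop⟩ := ih (LinearMap.ker g)
    let post : ((Fin k → R) →ₗ[R] Jt R t) →ₗ[R] ((Fin k → R) →ₗ[R] Jt R (t + 1)) :=
      { toFun := fun ψ => dJ R t ∘ₗ ψ
        map_add' := fun a b => LinearMap.comp_add a b (dJ R t)
        map_smul' := fun r a => LinearMap.comp_smul (dJ R t) r a }
    let res : ((Fin k → R) →ₗ[R] Jt R t) →ₗ[R] (LinearMap.ker g →ₗ[R] Jt R t) :=
      LinearMap.lcomp R (Jt R t) (LinearMap.ker g).subtype
    let B := homBnd (dJ R) (LinearMap.ker g) t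
    let P : Submodule R ((Fin k → R) →ₗ[R] Jt R t) :=
      LinearMap.ker ((LinearMap.lcomp R (Jt R (t + 1)) (LinearMap.ker g).subtype) ∘ₗ post)
    obtain ⟨P₀, hP₀, hP₀le, hPtop⟩ := exists_fg_sup_ker P (B.mkQ ∘ₗ res) (hGK.map B.mkQ) (by
      rintro _ ⟨ψ, hψ, rfl⟩
      obtain ⟨a, ha, b, hb, hab⟩ := Submodule.mem_sup.1 (hGKtop (res ψ) hψ)
      refine ⟨a, ha, ?_⟩
      show B.mkQ a = B.mkQ (res ψ)
      rw [← hab, map_add, show B.mkQ b = 0 from (Submodule.Quotient.mk_eq_zero B).2 hb, add_zero])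
    let pg : (E →ₗ[R] Jt R (t + 1)) →ₗ[R] ((Fin k → R) →ₗ[R] Jt R (t + 1)) :=
      LinearMap.lcomp R (Jt R (t + 1)) g
    have hpg : Function.Injective pg := hg.injective_linearMapComp_right
    refine ⟨(P₀.map post).comap pg, comap_fg_of_injective pg hpg (hP₀.map post), fun φ hφ => ?_⟩
    obtain ⟨ψ, hψ⟩ : ∃ ψ : (Fin k → R) →ₗ[R] Jt R t, dJ R t ∘ₗ ψ = φ ∘ₗ g := by
      choose y hy using fun i => dJ_exact R t (φ (g (Pi.single i 1)))
        (LinearMap.congr_fun hφ _)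
      refine ⟨Fintype.linearCombination R y, LinearMap.pi_ext' fun i => LinearMap.ext_ring ?_⟩
      simp only [LinearMap.comp_apply, LinearMap.single_apply, Fintype.linearCombination_apply_single,
        one_smul, hy]
    have hψP : ψ ∈ P := LinearMap.ext fun x => by
      show (dJ R t ∘ₗ ψ) x.1 = 0
      rw [hψ, LinearMap.comp_apply, LinearMap.mem_ker.1 x.2, map_zero]
    obtain ⟨p₀, hp₀, ψ', hψ', hsum⟩ := Submodule.mem_sup.1 (hPtop hψP)
    have hres : res ψ' ∈ B := (Submodule.Quotient.mk_eq_zero B).1 hψ'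
    obtain ⟨ω, hω⟩ : ∃ ω : E →ₗ[R] Jt R t, (dJ R t ∘ₗ ω) ∘ₗ g = dJ R t ∘ₗ ψ' := by
      obtain ⟨ψ'', hker, hd⟩ : ∃ ψ'' : (Fin k → R) →ₗ[R] Jt R t,
          (∀ x ∈ LinearMap.ker g, ψ'' x = 0) ∧ dJ R t ∘ₗ ψ'' = dJ R t ∘ₗ ψ' := by
        rcases t with _ | s
        · exact ⟨ψ', fun x hx => LinearMap.congr_fun (eq_zero_of_homBnd (dJ R) _ rfl hres) ⟨x, hx⟩, rfl⟩
        · obtain ⟨χ, hχ⟩ := exists_of_homBnd (dJ R) _ (rfl : s + 1 = s + 1) hres
          obtain ⟨χ', hχ'⟩ := Module.Injective.out (LinearMap.ker g).subtype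
            (Submodule.injective_subtype _) χ
          refine ⟨ψ' - dJ R s ∘ₗ χ', fun x hx => ?_, ?_⟩
          · rw [LinearMap.sub_apply, show ψ' x = dJ R s (χ ⟨x, hx⟩) from LinearMap.congr_fun hχ ⟨x, hx⟩,
              LinearMap.comp_apply, show χ' x = χ ⟨x, hx⟩ from hχ' ⟨x, hx⟩, sub_self]
          · rw [LinearMap.comp_sub, ← LinearMap.comp_assoc, dJ_dJ, LinearMap.zero_comp, sub_zero]
      refine ⟨(LinearMap.ker g).liftQ ψ'' hker ∘ₗ (g.quotKerEquivOfSurjective hg).symm.toLinearMap, ?_⟩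
      rw [← hd, LinearMap.comp_assoc]
      congr 1
      refine LinearMap.ext fun x => ?_
      show (LinearMap.ker g).liftQ ψ'' hker ((g.quotKerEquivOfSurjective hg).symm (g x)) = ψ'' x
      rw [show g x = g.quotKerEquivOfSurjective hg (Submodule.Quotient.mk x) from rfl,
        LinearEquiv.symm_apply_apply]
      rfl
    rw [show φ = (φ - dJ R t ∘ₗ ω) + dJ R t ∘ₗ ω from (sub_add_cancel _ _).symm]
    refine Submodule.add_mem _ (Submodule.mem_sup_left ⟨p₀, hp₀, ?_⟩) (Submodule.mem_sup_right ⟨ω, rfl⟩)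
    show dJ R t ∘ₗ p₀ = (φ - dJ R t ∘ₗ ω) ∘ₗ g
    rw [LinearMap.sub_comp, hω, ← hψ, ← hsum, LinearMap.comp_add, add_sub_cancel_right]

variable (J : Ideal R)

/-- The differential of `Γ_J J^•`. -/
noncomputable def dW (t : ℕ) : WW J t →ₗ[R] WW J (t + 1) :=
  (dJ R t).restrict fun _ hm => DRing.map_mem_torsionSub J (dJ R t) hm

lemma dW_dW (t : ℕ) : dW J (t + 1) ∘ₗ dW J t = 0 :=
  LinearMap.ext fun x => Subtype.ext (LinearMap.congr_fun (dJ_dJ R t) x.1)

/-- Finiteness for a finite module killed by a power of `J`. -/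
theorem exists_fg_cocycles_torsion (t : ℕ) (E : Type u) [AddCommGroup E] [Module R E] [Module.Finite R E]
    (n : ℕ) (hn : ∀ a ∈ J ^ n, ∀ e : E, a • e = 0) :
    ∃ G : Submodule R (E →ₗ[R] WW J t), G.FG ∧
      ∀ φ : E →ₗ[R] WW J t, dW J t ∘ₗ φ = 0 → φ ∈ G ⊔ homBnd (dW J) E t := by
  obtain ⟨G, hG, hGtop⟩ := exists_fg_cocycles t E (R := R)
  let incl : (E →ₗ[R] WW J t) →ₗ[R] (E →ₗ[R] Jt R t) :=
    { toFun := fun φ => (DRing.torsionSub J (Jt R t)).subtype ∘ₗ φ
      map_add' := fun a b => LinearMap.comp_add a b _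
      map_smul' := fun r a => LinearMap.comp_smul _ r a }
  have hincl : Function.Injective incl := fun a b h =>
    LinearMap.ext fun e => Subtype.ext (LinearMap.congr_fun h e)
  refine ⟨G.comap incl, comap_fg_of_injective incl hincl hG, fun φ hφ => ?_⟩
  have hcyc : dJ R t ∘ₗ incl φ = 0 :=
    LinearMap.ext fun e => congrArg Subtype.val (LinearMap.congr_fun hφ e)
  obtain ⟨γ, hγ, b, hb, hsum⟩ := Submodule.mem_sup.1 (hGtop (incl φ) hcyc)
  have hlift : ∀ {s : ℕ} (ψ : E →ₗ[R] Jt R s), ∀ e, ψ e ∈ DRing.torsionSub J (Jt R s) :=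
    fun ψ e => ⟨n, fun a ha => by rw [← map_smul, hn a ha, map_zero]⟩
  obtain ⟨b', hb', rfl⟩ : ∃ b' ∈ homBnd (dW J) E t, incl b' = b := by
    rcases t with _ | s
    · exact ⟨0, Submodule.zero_mem _, by rw [map_zero, eq_zero_of_homBnd (dJ R) E rfl hb]⟩
    · obtain ⟨ψ, hψ⟩ := exists_of_homBnd (dJ R) E (rfl : s + 1 = s + 1) hb
      exact ⟨dW J s ∘ₗ ψ.codRestrict _ (hlift ψ), ⟨_, rfl⟩, by rw [hψ]; rfl⟩
  rw [show φ = (φ - b') + b' from (sub_add_cancel _ _).symm]
  refine Submodule.add_mem _ (Submodule.mem_sup_left ?_) (Submodule.mem_sup_right hb')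
  show incl (φ - b') ∈ G
  rw [map_sub, ← hsum, add_sub_cancel_right]
  exact hγ

instance injective_WW (t : ℕ) : Module.Injective R (WW J t) := by
  have e : (⨆ n : ℕ, Submodule.torsionBySet R (Jt R t) ((J ^ n : Ideal R) : Set R)) =
      DRing.torsionSub J (Jt R t) := by
    refine le_antisymm (iSup_le fun n x hx => ⟨n, fun a ha => (Submodule.mem_torsionBySet_iff _ _).1 hx ⟨a, ha⟩⟩)
      fun x ⟨n, hx⟩ => Submodule.mem_iSup_of_mem n ((Submodule.mem_torsionBySet_iff _ _).2 fun a => hx a.1 a.2)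
  have h := LC.injective_torsion (I := Jt R t) J
  rw [e] at h
  exact h

end Groth.Agent.GrLib8.OneDeg
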