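import Groth.Agent.S5165
import Groth.Agent.RegLoc6.Pd
import Groth.Agent.LC.ExtLoc
import Mathlib.Algebra.Homology.DerivedCategory.Ext.Linear

/-!
Finite projective resolutions over a regular ring and their duals.
-/

namespace Groth.Agent.GrLib8.OneDeg

open CategoryTheory Groth.Agent

universe u

/-- A finite resolution by finite projective modules. -/
structure FRes (R : Type u) [CommRing R] (M : Type u) [AddCommGroup M] [Module R M] :
    Type (u + 1) where
  /-- the terms -/
  F : ℕ → ModuleCat.{u} R
  finite : ∀ q, Module.Finite R (F q)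
  projective : ∀ q, Module.Projective R (F q)
  /-- the differential -/
  d : ∀ q, F (q + 1) →ₗ[R] F q
  /-- the augmentation -/
  ε : F 0 →ₗ[R] M
  surj : Function.Surjective ε
  exact₀ : Function.Exact (d 0) ε
  exact : ∀ q, Function.Exact (d (q + 1)) (d q)
  /-- the length -/
  len : ℕ
  vanish : ∀ q, len < q → Subsingleton (F q)

variable {R : Type u} [CommRing R] {M : Type u} [AddCommGroup M] [Module R M]

instance (P : FRes R M) (q : ℕ) : Module.Finite R (P.F q) := P.finite q

instance (P : FRes R M) (q : ℕ) : Module.Projective R (P.F q) := P.projective q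

/-- The shifted resolution of the kernel of the augmentation. -/
noncomputable def FRes.shift (P : FRes R M) : FRes R (LinearMap.ker P.ε) where
  F q := P.F (q + 1)
  finite q := P.finite (q + 1)
  projective q := P.projective (q + 1)
  d q := P.d (q + 1)
  ε := (P.d 0).codRestrict (LinearMap.ker P.ε) fun x => P.exact₀.apply_apply_eq_zero x
  surj := fun ⟨y, hy⟩ => by
    obtain ⟨x, rfl⟩ := (P.exact₀ y).1 hy
    exact ⟨x, rfl⟩
  exact₀ := fun x => by
    rw [← P.exact 0 x]
    exact Subtype.ext_iff
  exact q := P.exact (q + 1)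
  len := P.len
  vanish q hq := P.vanish (q + 1) (by omega)

/-- The terms of a prolonged resolution. -/
def consF (X : ModuleCat.{u} R) (F : ℕ → ModuleCat.{u} R) : ℕ → ModuleCat.{u} R
  | 0 => X
  | q + 1 => F q

theorem exists_fres [IsNoetherianRing R] : ∀ (n : ℕ) (M : Type u) [AddCommGroup M] [Module R M]
    [Module.Finite R M], RegLoc6.PdLE R n M → Nonempty (FRes R M) := by
  intro n
  induction n with
  | zero =>
    intro M _ _ _ h
    have hM : Module.Projective R M := RegLoc6.pdLE_zero_iff.1 h
    let F : ℕ → ModuleCat.{u} R := consF (ModuleCat.of R M) fun _ => ModuleCat.of R PUnit.{u + 1}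
    exact ⟨{
      F := F
      finite := fun q => by
        rcases q with _ | q
        · exact inferInstanceAs (Module.Finite R M)
        · exact inferInstanceAs (Module.Finite R PUnit.{u + 1})
      projective := fun q => by
        rcases q with _ | q
        · exact hM
        · exact inferInstanceAs (Module.Projective R PUnit.{u + 1})
      d := fun q => 0
      ε := LinearMap.id
      surj := fun x => ⟨x, rfl⟩
      exact₀ := fun x => ⟨fun hx => ⟨0, hx.symm⟩, fun ⟨_, hy⟩ => hy.symm⟩
      exact := fun q x => ⟨fun _ => ⟨0, (Subsingleton.elim (α := PUnit.{u + 1}) _ _)⟩,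
        fun _ => rfl⟩
      len := 0
      vanish := fun q hq => by
        rcases q with _ | q
        · omega
        · exact inferInstanceAs (Subsingleton PUnit.{u + 1}) }⟩
  | succ n ih =>
    intro M _ _ _ h
    obtain ⟨k, g, hg⟩ := RegLoc6.exists_presentation (R := R) (M := M)
    obtain ⟨P⟩ := ih (LinearMap.ker g) ((RegLoc6.pdLE_succ_iff g hg).1 h)
    let F : ℕ → ModuleCat.{u} R := consF (ModuleCat.of R (Fin k → R)) P.F
    exact ⟨{
      F := F
      finite := fun q => by
        rcases q with _ | q
        · exact inferInstanceAs (Module.Finite R (Fin k → R))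
        · exact P.finite q
      projective := fun q => by
        rcases q with _ | q
        · exact inferInstanceAs (Module.Projective R (Fin k → R))
        · exact P.projective q
      d := fun q => match q with
        | 0 => (LinearMap.ker g).subtype ∘ₗ P.ε
        | q + 1 => P.d q
      ε := g
      surj := hg
      exact₀ := fun x => ⟨fun hx => by
          obtain ⟨y, hy⟩ := P.surj ⟨x, hx⟩
          exact ⟨y, congrArg Subtype.val hy⟩, by
          rintro ⟨y, rfl⟩
          exact (P.ε y).2⟩
      exact := fun q => by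
        rcases q with _ | q
        · intro x
          exact Iff.trans ⟨fun hx => Subtype.ext hx, fun hx => congrArg Subtype.val hx⟩ (P.exact₀ x)
        · exact P.exact q
      len := P.len + 1
      vanish := fun q hq => by
        rcases q with _ | q
        · omega
        · exact P.vanish q (by omega) }⟩

/-- A finite module over a regular ring has a finite resolution by finite projective modules. -/
theorem nonempty_fres [IsRegularRing R] [Module.Finite R M] : Nonempty (FRes R M) := by
  obtain ⟨n, hn⟩ := Groth.Agent.S5165.result R M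
  exact exists_fres n M hn

/-- `s` kills `Ext^0`: it kills the cocycles in degree zero. -/
theorem smul_cocycle_zero (P : FRes R M) (s : R)
    (hs : ∀ x : Abelian.Ext (ModuleCat.of R M) (ModuleCat.of R R) 0, s • x = 0)
    (φ : P.F 0 →ₗ[R] R) (hφ : φ ∘ₗ P.d 0 = 0) : s • φ = 0 := by
  obtain ⟨ψ, rfl⟩ : ∃ ψ : M →ₗ[R] R, ψ ∘ₗ P.ε = φ := by
    have hle : LinearMap.ker P.ε ≤ LinearMap.ker φ := fun x hx => by
      obtain ⟨y, rfl⟩ := (P.exact₀ x).1 hx
      exact LinearMap.congr_fun hφ y
    refine ⟨(LinearMap.ker P.ε).liftQ φ hle ∘ₗ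
      (P.ε.quotKerEquivOfSurjective P.surj).symm.toLinearMap, LinearMap.ext fun x => ?_⟩
    show (LinearMap.ker P.ε).liftQ φ hle ((P.ε.quotKerEquivOfSurjective P.surj).symm (P.ε x)) = φ x
    rw [show P.ε x = P.ε.quotKerEquivOfSurjective P.surj (Submodule.Quotient.mk x) from rfl,
      LinearEquiv.symm_apply_apply]
    rfl
  have h := hs (Abelian.Ext.mk₀ (ModuleCat.ofHom ψ))
  rw [← Abelian.Ext.mk₀_smul, ← Abelian.Ext.mk₀_zero] at h
  have h1 : s • ψ = 0 := congrArg ModuleCat.Hom.hom ((Abelian.Ext.mk₀_bijective _ _).1 h)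
  rw [← LinearMap.smul_comp, h1, LinearMap.zero_comp]

/-- `s` kills `Ext^{p+1}`: it moves the cocycles in degree `p + 1` to coboundaries. -/
theorem smul_cocycle_succ (p : ℕ) : ∀ {M : Type u} [AddCommGroup M] [Module R M] (P : FRes R M) (s : R),
    (∀ x : Abelian.Ext (ModuleCat.of R M) (ModuleCat.of R R) (p + 1), s • x = 0) →
    ∀ φ : P.F (p + 1) →ₗ[R] R, φ ∘ₗ P.d (p + 1) = 0 →
      ∃ g : P.F p →ₗ[R] R, g ∘ₗ P.d p = s • φ := by
  induction p with
  | zero =>
    intro M _ _ P s hs φ hφ
    obtain ⟨ψ, rfl⟩ : ∃ ψ : LinearMap.ker P.ε →ₗ[R] R, ψ ∘ₗ P.shift.ε = φ := by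
      have hle : LinearMap.ker P.shift.ε ≤ LinearMap.ker φ := fun x hx => by
        obtain ⟨y, rfl⟩ := (P.shift.exact₀ x).1 hx
        exact LinearMap.congr_fun hφ y
      refine ⟨(LinearMap.ker P.shift.ε).liftQ φ hle ∘ₗ
        (P.shift.ε.quotKerEquivOfSurjective P.shift.surj).symm.toLinearMap, LinearMap.ext fun x => ?_⟩
      show (LinearMap.ker P.shift.ε).liftQ φ hle
        ((P.shift.ε.quotKerEquivOfSurjective P.shift.surj).symm (P.shift.ε x)) = φ x
      rw [show P.shift.ε x = P.shift.ε.quotKerEquivOfSurjective P.shift.surj (Submodule.Quotient.mk x)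
          from rfl, LinearEquiv.symm_apply_apply]
      rfl
    have hS := LinearMap.shortExact_shortComplexKer P.surj
    have h := hs (hS.extClass.comp (Abelian.Ext.mk₀ (ModuleCat.ofHom ψ)) (add_zero 1))
    rw [← Abelian.Ext.comp_smul, ← Abelian.Ext.mk₀_smul] at h
    obtain ⟨x, hx⟩ := Abelian.Ext.contravariant_sequence_exact₁ hS (ModuleCat.of R R)
      (Abelian.Ext.mk₀ (s • ModuleCat.ofHom ψ)) (n₁ := 1) rfl h
    obtain ⟨g, rfl⟩ := (Abelian.Ext.mk₀_bijective _ _).2 x
    rw [Abelian.Ext.mk₀_comp_mk₀] at hx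
    have h1 := congrArg ModuleCat.Hom.hom ((Abelian.Ext.mk₀_bijective _ _).1 hx)
    refine ⟨g.hom, LinearMap.ext fun y => ?_⟩
    exact LinearMap.congr_fun h1 (P.shift.ε y)
  | succ p ih =>
    intro M _ _ P s hs φ hφ
    refine ih P.shift s (fun x => ?_) φ hφ
    have hS := LinearMap.shortExact_shortComplexKer P.surj
    have h := hs (hS.extClass.comp x (Nat.add_comm 1 (p + 1)))
    rw [← Abelian.Ext.comp_smul] at h
    obtain ⟨y, hy⟩ := Abelian.Ext.contravariant_sequence_exact₁ hS (ModuleCat.of R R) (s • x)
      (n₁ := p + 1 + 1) (by omega) h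
    have : Projective (P.ε.shortComplexKer).X₂ := (IsProjective.iff_projective (R := R) (P.F 0)).1 (P.projective 0)
    rw [← hy, Abelian.Ext.eq_zero_of_projective y, Abelian.Ext.comp_zero]

end Groth.Agent.GrLib8.OneDeg
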