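import Mathlib.RingTheory.Noetherian.Basic
import Mathlib.RingTheory.Finiteness.Basic
import Mathlib.Algebra.Module.Injective
import Mathlib.Algebra.Module.Submodule.Map
import Mathlib.LinearAlgebra.Pi
import Mathlib.Tactic.Module

/-!
The total complex of the double complex `Hom(D^q, W^l)`: reduction along both filtrations.
-/

namespace Groth.Agent.GrLib8.OneDeg

universe u

variable {R : Type u} [CommRing R]
variable {D : ℕ → Type u} [∀ q, AddCommGroup (D q)] [∀ q, Module R (D q)]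
variable (d : ∀ q, D q →ₗ[R] D (q + 1))
variable {W : ℕ → Type u} [∀ l, AddCommGroup (W l)] [∀ l, Module R (W l)]
variable (δ : ∀ l, W l →ₗ[R] W (l + 1))

/-- All families of maps `D q → W l`. -/
abbrev Fam (R : Type u) [CommRing R] (D W : ℕ → Type u) [∀ q, AddCommGroup (D q)]
    [∀ q, Module R (D q)] [∀ l, AddCommGroup (W l)] [∀ l, Module R (W l)] : Type u :=
  ∀ q l : ℕ, D q →ₗ[R] W l

/-- The total differential. -/
def dT : Fam R D W →ₗ[R] Fam R D W where
  toFun z q l := z (q + 1) l ∘ₗ d q + match l with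
    | 0 => 0
    | l + 1 => ((-1 : R) ^ q) • (δ l ∘ₗ z q l)
  map_add' z w := by
    funext q l
    rcases l with _ | l <;>
      simp only [Pi.add_apply, LinearMap.add_comp, LinearMap.comp_add, add_zero, smul_add]
    abel
  map_smul' r z := by
    funext q l
    rcases l with _ | l <;>
      simp [LinearMap.smul_comp, LinearMap.comp_smul, smul_comm r]

lemma dT_apply_zero (z : Fam R D W) (q : ℕ) : dT d δ z q 0 = z (q + 1) 0 ∘ₗ d q := by
  simp [dT]

lemma dT_apply_succ (z : Fam R D W) (q l : ℕ) :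
    dT d δ z q (l + 1) = z (q + 1) (l + 1) ∘ₗ d q + ((-1 : R) ^ q) • (δ l ∘ₗ z q l) := rfl

theorem dT_dT (hd : ∀ q, d (q + 1) ∘ₗ d q = 0) (hδ : ∀ l, δ (l + 1) ∘ₗ δ l = 0) (z : Fam R D W) :
    dT d δ (dT d δ z) = 0 := by
  funext q l
  rcases l with _ | _ | l
  · rw [dT_apply_zero, dT_apply_zero, LinearMap.comp_assoc, hd, LinearMap.comp_zero]
    rfl
  · rw [dT_apply_succ, dT_apply_succ, dT_apply_zero, LinearMap.add_comp, LinearMap.comp_assoc, hd,
      LinearMap.comp_zero, LinearMap.smul_comp, LinearMap.comp_assoc, pow_succ]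
    simp
  · rw [dT_apply_succ, dT_apply_succ, dT_apply_succ, LinearMap.add_comp, LinearMap.comp_add,
      LinearMap.comp_assoc, hd, LinearMap.comp_zero, LinearMap.smul_comp, LinearMap.comp_assoc,
      LinearMap.comp_smul, ← LinearMap.comp_assoc (z q l) (δ l) (δ (l + 1)), hδ, LinearMap.zero_comp,
      smul_zero, pow_succ]
    simp [LinearMap.comp_assoc]

/-- Families supported on `l + a = b + q`. -/
def Cdeg (R : Type u) [CommRing R] (D W : ℕ → Type u) [∀ q, AddCommGroup (D q)]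
    [∀ q, Module R (D q)] [∀ l, AddCommGroup (W l)] [∀ l, Module R (W l)] (a b : ℕ) :
    Submodule R (Fam R D W) where
  carrier := {z | ∀ q l, l + a ≠ b + q → z q l = 0}
  add_mem' hz hw q l h := by rw [Pi.add_apply, Pi.add_apply, hz q l h, hw q l h, add_zero]
  zero_mem' q l _ := rfl
  smul_mem' r z hz q l h := by rw [Pi.smul_apply, Pi.smul_apply, hz q l h, smul_zero]

lemma cdeg_congr {a b a' b' : ℕ} (h : a + b' = a' + b) : Cdeg R D W a b = Cdeg R D W a' b' := by
  ext z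
  exact ⟨fun hz q l hl => hz q l (by omega), fun hz q l hl => hz q l (by omega)⟩

lemma dT_mem {a b : ℕ} {z : Fam R D W} (hz : z ∈ Cdeg R D W a b) :
    dT d δ z ∈ Cdeg R D W a (b + 1) := by
  intro q l hl
  rcases l with _ | l
  · rw [dT_apply_zero, hz (q + 1) 0 (by omega), LinearMap.zero_comp]
  · rw [dT_apply_succ, hz (q + 1) (l + 1) (by omega), hz q l (by omega), LinearMap.zero_comp,
      LinearMap.comp_zero, smul_zero, add_zero]

/-- A single component. -/
noncomputable def sgl (q l : ℕ) (φ : D q →ₗ[R] W l) : Fam R D W :=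
  fun q' l' => if h : q' = q ∧ l' = l then by rw [h.1, h.2]; exact φ else 0

lemma sgl_same (q l : ℕ) (φ : D q →ₗ[R] W l) : sgl q l φ q l = φ := by
  simp [sgl]

lemma sgl_ne {q l q' l' : ℕ} (φ : D q →ₗ[R] W l) (h : ¬(q' = q ∧ l' = l)) :
    sgl q l φ q' l' = 0 := by
  simp [sgl, h]

lemma sgl_mem (q l a b : ℕ) (φ : D q →ₗ[R] W l) (h : l + a = b + q) :
    sgl q l φ ∈ Cdeg R D W a b := fun q' l' hl => sgl_ne φ fun hh => hl (by rw [hh.1, hh.2, h])

lemma dT_sgl_of_gt (q l : ℕ) (φ : D q →ₗ[R] W l) {q' : ℕ} (h : q < q') (l' : ℕ) :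
    dT d δ (sgl q l φ) q' l' = 0 := by
  rcases l' with _ | l'
  · rw [dT_apply_zero, sgl_ne φ (by omega), LinearMap.zero_comp]
  · rw [dT_apply_succ, sgl_ne φ (by omega), sgl_ne φ (by omega), LinearMap.zero_comp,
      LinearMap.comp_zero, smul_zero, add_zero]

lemma dT_sgl_same (q l : ℕ) (φ : D q →ₗ[R] W l) :
    dT d δ (sgl q l φ) q (l + 1) = ((-1 : R) ^ q) • (δ l ∘ₗ φ) := by
  rw [dT_apply_succ, sgl_ne φ (by omega), sgl_same, LinearMap.zero_comp, zero_add]

/-- Reduction from the top of the `q`-filtration, for a `δ`-exact target. -/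
theorem exists_reduce (hlift : ∀ q l, ∀ φ : D q →ₗ[R] W (l + 1), δ (l + 1) ∘ₗ φ = 0 →
      ∃ ψ, δ l ∘ₗ ψ = φ) (hd : ∀ q, d (q + 1) ∘ₗ d q = 0) (hδ : ∀ l, δ (l + 1) ∘ₗ δ l = 0)
    (h : ℕ) (hD : ∀ q, h < q → Subsingleton (D q)) {a b m : ℕ} :
    ∀ (k : ℕ), ∀ z ∈ Cdeg R D W a b, (∀ q l, m ≤ q → dT d δ z q (l + 1) = 0) →
      h + 1 ≤ m + k → a < b + m →
      ∃ w ∈ Cdeg R D W (a + 1) b, ∀ q l, m ≤ q → (z - dT d δ w) q l = 0 := by
  intro k
  induction k generalizing m with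
  | zero =>
    intro z _ _ hm _
    refine ⟨0, Submodule.zero_mem _, fun q l hq => ?_⟩
    haveI := hD q (by omega)
    exact Subsingleton.elim _ _
  | succ k ih =>
    intro z hz hdz hm hab
    obtain ⟨w, hw, hwz⟩ := ih (m := m + 1) z hz (fun q l hq => hdz q l (by omega)) (by omega) (by omega)
    set z' := z - dT d δ w with hz'def
    have hz' : z' ∈ Cdeg R D W a b := by
      refine Submodule.sub_mem _ hz ?_
      rw [cdeg_congr (show a + (b + 1) = (a + 1) + b by omega)]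
      exact dT_mem d δ hw
    obtain ⟨l, hl⟩ : ∃ l, l + 1 + a = b + m := ⟨b + m - a - 1, by omega⟩
    have hcyc : δ (l + 1) ∘ₗ z' m (l + 1) = 0 := by
      have h1 : dT d δ z' m (l + 2) = 0 := by
        rw [hz'def, map_sub, dT_dT d δ hd hδ w, sub_zero]
        exact hdz m (l + 1) le_rfl
      rw [dT_apply_succ, hwz (m + 1) (l + 2) le_rfl, LinearMap.zero_comp, zero_add] at h1
      have h2 := congrArg (fun f => ((-1 : R) ^ m) • f) h1
      simpa [smul_smul, ← pow_add, ← two_mul, pow_mul] using h2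
    obtain ⟨ψ, hψ⟩ := hlift m l (z' m (l + 1)) hcyc
    refine ⟨w + sgl m l (((-1 : R) ^ m) • ψ),
      Submodule.add_mem _ hw (sgl_mem m l (a + 1) b _ (by omega)), fun q l' hq => ?_⟩
    rw [map_add, ← sub_sub, Pi.sub_apply, Pi.sub_apply, ← hz'def]
    rcases eq_or_lt_of_le hq with rfl | hlt
    · by_cases hll : l' = l + 1
      · subst hll
        rw [dT_sgl_same, LinearMap.comp_smul, smul_smul, hψ, ← pow_add, ← two_mul, pow_mul,
          neg_one_sq, one_pow, one_smul, sub_self]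
      · rw [hz' m l' (by omega)]
        rcases l' with _ | l'
        · rw [dT_apply_zero, sgl_ne _ (by omega), LinearMap.zero_comp, sub_zero]
        · rw [dT_apply_succ, sgl_ne _ (by omega), sgl_ne _ (by omega), LinearMap.zero_comp,
            LinearMap.comp_zero, smul_zero, add_zero, sub_zero]
    · rw [hwz q l' hlt, dT_sgl_of_gt d δ m l _ hlt, sub_zero]

/-- Cocycles in total degree `i` starting at column `m`. -/
def Fil (i m : ℕ) : Submodule R (Fam R D W) :=
  Cdeg R D W 0 i ⊓ LinearMap.ker (dT d δ) ⊓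
    { carrier := {z | ∀ q l, q < m → z q l = 0}
      add_mem' := fun hz hw q l h => by rw [Pi.add_apply, Pi.add_apply, hz q l h, hw q l h, add_zero]
      zero_mem' := fun q l _ => rfl
      smul_mem' := fun r z hz q l h => by rw [Pi.smul_apply, Pi.smul_apply, hz q l h, smul_zero] }

lemma mem_Fil {i m : ℕ} {z : Fam R D W} : z ∈ Fil d δ i m ↔
    z ∈ Cdeg R D W 0 i ∧ dT d δ z = 0 ∧ ∀ q l, q < m → z q l = 0 :=
  ⟨fun h => ⟨h.1.1, h.1.2, h.2⟩, fun h => ⟨⟨h.1, h.2.1⟩, h.2.2⟩⟩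

/-- The boundaries. -/
abbrev Bnd (i : ℕ) : Submodule R (Fam R D W) := (Cdeg R D W 1 i).map (dT d δ)

lemma comp_eq_zero_of_fil {i m : ℕ} {z : Fam R D W} (hz : z ∈ Fil d δ i m) (l : ℕ) :
    ∀ (q : ℕ), q + 1 = m → z (q + 1) l ∘ₗ d q = 0 := by
  obtain ⟨-, hz0, hzm⟩ := (mem_Fil d δ).1 hz
  intro q hq
  have h1 : dT d δ z q l = 0 := by rw [hz0]; rfl
  rcases l with _ | l
  · rwa [dT_apply_zero] at h1
  · rwa [dT_apply_succ, hzm q l (by omega), LinearMap.comp_zero, smul_zero, add_zero] at h1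

/-- Coboundaries of `Hom(E, W)`. -/
def homBnd (E : Type u) [AddCommGroup E] [Module R E] : ∀ t, Submodule R (E →ₗ[R] W t)
  | 0 => ⊥
  | t + 1 => LinearMap.range
      ({ toFun := fun ψ => δ t ∘ₗ ψ
         map_add' := fun a b => LinearMap.comp_add a b (δ t)
         map_smul' := fun c a => LinearMap.comp_smul (δ t) c a } :
        (E →ₗ[R] W t) →ₗ[R] E →ₗ[R] W (t + 1))

lemma eq_zero_of_homBnd (E : Type u) [AddCommGroup E] [Module R E] {s : ℕ} (hs : s = 0)
    {φ : E →ₗ[R] W s} (hφ : φ ∈ homBnd δ E s) : φ = 0 := by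
  subst hs
  exact (Submodule.mem_bot R).1 hφ

lemma exists_of_homBnd (E : Type u) [AddCommGroup E] [Module R E] {s t : ℕ} (hs : s = t + 1)
    {φ : E →ₗ[R] W s} (hφ : φ ∈ homBnd δ E s) :
    ∃ ψ : E →ₗ[R] W t, φ = hs ▸ (δ t ∘ₗ ψ) := by
  subst hs
  obtain ⟨ψ, rfl⟩ := hφ
  exact ⟨ψ, rfl⟩

/-- Everything is finite modulo boundaries. -/
theorem exists_fg_fil [IsNoetherianRing R] [∀ l, Module.Injective R (W l)]
    (hd : ∀ q, d (q + 1) ∘ₗ d q = 0) (hδ : ∀ l, δ (l + 1) ∘ₗ δ l = 0)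
    (h : ℕ) (hD : ∀ q, h < q → Subsingleton (D q))
    (Z' : ∀ q, Submodule R (D q)) (E : ℕ → Type u) [∀ q, AddCommGroup (E q)] [∀ q, Module R (E q)]
    (π : ∀ q, ↥(Z' q) →ₗ[R] E q) (hπ : ∀ q, Function.Surjective (π q))
    (hker : ∀ p (x : ↥(Z' (p + 1))), π (p + 1) x = 0 ↔ ∃ y : D p, (x : D (p + 1)) = d p y)
    (hker0 : ∀ (x : ↥(Z' 0)), π 0 x = 0 → (x : D 0) = 0)
    (hZ' : ∀ q, Z' q ≤ LinearMap.ker (d q)) (hB : ∀ q, LinearMap.range (d q) ≤ Z' (q + 1))
    (hfin : ∀ q t, ∃ G : Submodule R (E q →ₗ[R] W t), G.FG ∧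
      ∀ φ : E q →ₗ[R] W t, δ t ∘ₗ φ = 0 → φ ∈ G ⊔ homBnd δ (E q) t)
    {i : ℕ} (hvan : ∀ q, ∀ φ : D q →ₗ[R] W (i + q), (∀ x ∈ Z' q, φ x = 0) →
      ∀ x ∈ LinearMap.ker (d q), φ x = 0) :
    ∀ (k m : ℕ), h + 1 ≤ m + k →
      ∃ G : Submodule R (Fam R D W), G.FG ∧ G ≤ Fil d δ i m ∧ Fil d δ i m ≤ G ⊔ Bnd d δ i := by
  intro k
  induction k with
  | zero =>
    intro m hm
    refine ⟨⊥, Submodule.fg_bot, bot_le, fun z hz => ?_⟩
    have hz' := (mem_Fil d δ).1 hz
    have : z = 0 := funext fun q => funext fun l => by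
      by_cases hq : q < m
      · exact hz'.2.2 q l hq
      · haveI := hD q (by omega)
        exact Subsingleton.elim _ _
    rw [this]
    exact Submodule.zero_mem _
  | succ k ih =>
    intro m hm
    obtain ⟨G₁, hG₁, hG₁le, hG₁top⟩ := ih (m + 1) (by omega)
    have hG₁le' : G₁ ≤ Fil d δ i m := hG₁le.trans fun z hz => (mem_Fil d δ).2
      ⟨((mem_Fil d δ).1 hz).1, ((mem_Fil d δ).1 hz).2.1, fun q l hq => ((mem_Fil d δ).1 hz).2.2 q l (by omega)⟩
    -- restriction of the first component to `Z'`, as a map on `E`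
    have hfac : ∀ z ∈ Fil d δ i m, ∀ x : ↥(Z' m), π m x = 0 → z m (i + m) (x : D m) = 0 := by
      intro z hz x hx
      rcases m with _ | p
      · rw [hker0 x hx, map_zero]
      · obtain ⟨y, hy⟩ := (hker _ x).1 hx
        rw [hy]
        exact LinearMap.congr_fun (comp_eq_zero_of_fil d δ hz _ p rfl) y
    let eq : (↥(Z' m) ⧸ LinearMap.ker (π m)) ≃ₗ[R] E m :=
      (π m).quotKerEquivOfSurjective (hπ m)
    let θ : ↥(Fil d δ i m) →ₗ[R] (E m →ₗ[R] W (i + m)) :=
      { toFun := fun z => ((LinearMap.ker (π m)).liftQ ((z.1 m (i + m)).comp (Z' m).subtype)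
          (fun x hx => hfac z.1 z.2 x hx)).comp eq.symm.toLinearMap
        map_add' := fun z w => LinearMap.ext fun e => by
          obtain ⟨x, hx⟩ := Submodule.mkQ_surjective _ (eq.symm e)
          simp only [LinearMap.add_apply, LinearMap.comp_apply, LinearEquiv.coe_coe, ← hx]
          rfl
        map_smul' := fun r z => LinearMap.ext fun e => by
          obtain ⟨x, hx⟩ := Submodule.mkQ_surjective _ (eq.symm e)
          simp only [RingHom.id_apply, LinearMap.smul_apply, LinearMap.comp_apply, LinearEquiv.coe_coe, ← hx]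
          rfl }
    have hθ : ∀ (z : ↥(Fil d δ i m)) (x : ↥(Z' m)), θ z (π m x) = z.1 m (i + m) (x : D m) := by
      intro z x
      show ((LinearMap.ker (π m)).liftQ ((z.1 m (i + m)).comp (Z' m).subtype)
        (fun x hx => hfac z.1 z.2 x hx)) (eq.symm (π m x)) = _
      rw [show π m x = eq (Submodule.Quotient.mk x) from rfl, eq.symm_apply_apply]
      rfl
    -- the boundaries
    let B : Submodule R (E m →ₗ[R] W (i + m)) := homBnd δ (E m) (i + m)
    obtain ⟨Gt, hGt, hGttop⟩ := hfin m (i + m)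
    have hB_eq : ∀ φ : E m →ₗ[R] W (i + m), δ (i + m) ∘ₗ φ = 0 → φ ∈ Gt ⊔ B := hGttop
    have hcyc : ∀ z : ↥(Fil d δ i m), δ (i + m) ∘ₗ θ z = 0 := by
      intro z
      refine LinearMap.ext fun e => ?_
      obtain ⟨x, rfl⟩ := hπ m e
      rw [LinearMap.comp_apply, hθ, LinearMap.zero_apply]
      have h1 : dT d δ z.1 m (i + m + 1) (x : D m) = 0 := by rw [((mem_Fil d δ).1 z.2).2.1]; rfl
      rw [dT_apply_succ, LinearMap.add_apply, LinearMap.comp_apply,
        LinearMap.mem_ker.1 (hZ' m x.2), map_zero, zero_add, LinearMap.smul_apply] at h1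
      have h2 := congrArg (fun f => ((-1 : R) ^ m) • f) h1
      simpa [smul_smul, ← pow_add, ← two_mul, pow_mul] using h2
    -- a finite set of cocycles generating the image
    haveI : Module.Finite R ↥Gt := Module.Finite.iff_fg.2 hGt
    let θ' : ↥(Fil d δ i m) →ₗ[R] (E m →ₗ[R] W (i + m)) ⧸ B := B.mkQ.comp θ
    have hrange : LinearMap.range θ' ≤ Gt.map B.mkQ := by
      rintro _ ⟨z, rfl⟩
      obtain ⟨g, hg, b, hb, hgb⟩ := Submodule.mem_sup.1 (hB_eq _ (hcyc z))
      refine ⟨g, hg, ?_⟩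
      show B.mkQ g = B.mkQ (θ z)
      rw [← hgb, map_add, show B.mkQ b = 0 from (Submodule.Quotient.mk_eq_zero B).2 hb, add_zero]
    haveI : IsNoetherian R ↥(Gt.map B.mkQ) := isNoetherian_of_fg_of_noetherian _ (hGt.map _)
    have hfgr : (LinearMap.range θ').FG := by
      have := IsNoetherian.noetherian ((LinearMap.range θ').comap (Gt.map B.mkQ).subtype)
      have h2 := this.map (Gt.map B.mkQ).subtype
      rwa [Submodule.map_comap_subtype, inf_eq_right.2 hrange] at h2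
    obtain ⟨Z₀, hZ₀, hZ₀map⟩ : ∃ Z₀ : Submodule R ↥(Fil d δ i m), Z₀.FG ∧
        Z₀.map θ' = LinearMap.range θ' := by
      classical
      obtain ⟨s, hs⟩ := hfgr
      have : ∀ y ∈ s, ∃ z, θ' z = y := fun y hy => by
        have hy' : y ∈ LinearMap.range θ' := hs ▸ Submodule.subset_span hy
        exact hy'
      choose! g hg using this
      refine ⟨Submodule.span R (s.image g : Set _), ⟨_, rfl⟩, le_antisymm LinearMap.map_le_range ?_⟩
      rw [← hs, Submodule.span_le]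
      intro y hy
      exact ⟨g y, Submodule.subset_span (Finset.mem_image_of_mem g hy), hg y hy⟩
    refine ⟨Z₀.map (Fil d δ i m).subtype ⊔ G₁, (hZ₀.map _).sup hG₁,
      sup_le (Submodule.map_subtype_le _ _) hG₁le', fun z hz => ?_⟩
    obtain ⟨z₀, hz₀, hzz₀⟩ : ∃ z₀ ∈ Z₀, θ' z₀ = θ' ⟨z, hz⟩ := by
      have : θ' ⟨z, hz⟩ ∈ Z₀.map θ' := hZ₀map ▸ LinearMap.mem_range_self θ' _
      exact this
    let z₁ : Fam R D W := z - z₀.1
    have hz₁ : z₁ ∈ Fil d δ i m := Submodule.sub_mem _ hz z₀.2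
    have hz₁θ : θ ⟨z₁, hz₁⟩ ∈ B := by
      rw [← Submodule.Quotient.mk_eq_zero B]
      show θ' (⟨z, hz⟩ - z₀) = 0
      rw [map_sub, hzz₀, sub_self]
    -- kill the first component on `Z'`
    obtain ⟨w₁, hw₁, hw₁z⟩ : ∃ w ∈ Cdeg R D W 1 i, (∀ q l, q < m → dT d δ w q l = 0) ∧
        ∀ x ∈ Z' m, dT d δ w m (i + m) x = z₁ m (i + m) x := by
      rcases Nat.eq_zero_or_pos (i + m) with h0 | hpos
      · refine ⟨0, Submodule.zero_mem _, fun q l _ => by rw [map_zero]; rfl, fun x hx => ?_⟩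
        rw [map_zero, Pi.zero_apply, Pi.zero_apply, LinearMap.zero_apply, ← hθ ⟨z₁, hz₁⟩ ⟨x, hx⟩,
          eq_zero_of_homBnd δ (E m) h0 hz₁θ, LinearMap.zero_apply]
      · obtain ⟨t, ht⟩ := Nat.exists_eq_add_of_le' (show 1 ≤ i + m by omega)
        obtain ⟨ψ, hψ⟩ := exists_of_homBnd δ (E m) ht hz₁θ
        obtain ⟨ψ', hψ'⟩ := Module.Injective.out (Z' m).subtype
          (Submodule.injective_subtype _) (ψ ∘ₗ π m)
        refine ⟨sgl m t (((-1 : R) ^ m) • ψ'), sgl_mem m t 1 i _ (by omega), fun q l hq => ?_, fun x hx => ?_⟩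
        · rcases l with _ | l
          · rw [dT_apply_zero]
            by_cases hh : q + 1 = m ∧ 0 = t
            · obtain ⟨rfl, rfl⟩ := hh
              rw [sgl_same]
              refine LinearMap.ext fun y => ?_
              have h1 : π (q + 1) ⟨d q y, hB q ⟨y, rfl⟩⟩ = 0 := (hker _ _).2 ⟨y, rfl⟩
              rw [LinearMap.comp_apply, LinearMap.smul_apply,
                show ψ' (d q y) = ψ (π (q + 1) ⟨d q y, hB q ⟨y, rfl⟩⟩) from hψ' ⟨d q y, hB q ⟨y, rfl⟩⟩,
                h1, map_zero, smul_zero, LinearMap.zero_apply]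
            · rw [sgl_ne _ hh, LinearMap.zero_comp]
          · rw [dT_apply_succ, sgl_ne _ (show ¬(q = m ∧ l = t) by omega), LinearMap.comp_zero,
              smul_zero, add_zero]
            by_cases hh : q + 1 = m ∧ l + 1 = t
            · obtain ⟨rfl, rfl⟩ := hh
              rw [sgl_same]
              refine LinearMap.ext fun y => ?_
              have h1 : π (q + 1) ⟨d q y, hB q ⟨y, rfl⟩⟩ = 0 := (hker _ _).2 ⟨y, rfl⟩
              rw [LinearMap.comp_apply, LinearMap.smul_apply,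
                show ψ' (d q y) = ψ (π (q + 1) ⟨d q y, hB q ⟨y, rfl⟩⟩) from hψ' ⟨d q y, hB q ⟨y, rfl⟩⟩,
                h1, map_zero, smul_zero, LinearMap.zero_apply]
            · rw [sgl_ne _ hh, LinearMap.zero_comp]
        · have key : ∀ s (e : s = t + 1) (φ : E m →ₗ[R] W s) (Φ : D m →ₗ[R] W s),
              φ = e ▸ (δ t ∘ₗ ψ) → Φ x = φ (π m ⟨x, hx⟩) →
              dT d δ (sgl m t (((-1 : R) ^ m) • ψ')) m s x = Φ x := by
            intro s e φ Φ hφ hΦ
            subst e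
            rw [dT_sgl_same, hΦ, hφ, LinearMap.comp_smul, smul_smul, ← pow_add, ← two_mul, pow_mul,
              neg_one_sq, one_pow, one_smul]
            exact congrArg (δ t) (hψ' ⟨x, hx⟩)
          exact key _ ht _ _ hψ (hθ ⟨z₁, hz₁⟩ ⟨x, hx⟩).symm
    let z₂ : Fam R D W := z₁ - dT d δ w₁
    have hz₂ : z₂ ∈ Fil d δ i m := by
      refine Submodule.sub_mem _ hz₁ ((mem_Fil d δ).2 ⟨?_, dT_dT d δ hd hδ w₁, hw₁z.1⟩)
      rw [cdeg_congr (show 0 + (i + 1) = 1 + i by omega)]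
      exact dT_mem d δ hw₁
    have hz₂K : ∀ x ∈ LinearMap.ker (d m), z₂ m (i + m) x = 0 := hvan m _ fun x hx => by
      simp [z₂, hw₁z.2 x hx]
    -- so it factors through `d m`
    obtain ⟨χ, hχ⟩ : ∃ χ : D (m + 1) →ₗ[R] W (i + m), χ ∘ₗ d m = z₂ m (i + m) := by
      let ι : (D m ⧸ LinearMap.ker (d m)) →ₗ[R] D (m + 1) :=
        (LinearMap.ker (d m)).liftQ (d m) le_rfl
      have hι : Function.Injective ι := by
        rw [← LinearMap.ker_eq_bot, Submodule.ker_liftQ_eq_bot]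
        exact le_rfl
      obtain ⟨χ, hχ⟩ := Module.Injective.out ι hι
        ((LinearMap.ker (d m)).liftQ (z₂ m (i + m)) fun x hx => hz₂K x hx)
      exact ⟨χ, LinearMap.ext fun x => hχ (Submodule.Quotient.mk x)⟩
    let z₃ : Fam R D W := z₂ - dT d δ (sgl (m + 1) (i + m) χ)
    have hz₃ : z₃ ∈ Fil d δ i (m + 1) := by
      have hmem : dT d δ (sgl (m + 1) (i + m) χ) ∈ Cdeg R D W 0 i := by
        rw [cdeg_congr (show 0 + (i + 1) = 1 + i by omega)]
        exact dT_mem d δ (sgl_mem (m + 1) (i + m) 1 i χ (by omega))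
      obtain ⟨h1, h2, h3⟩ := (mem_Fil d δ).1 hz₂
      refine (mem_Fil d δ).2 ⟨Submodule.sub_mem _ h1 hmem, ?_, fun q l hq => ?_⟩
      · rw [map_sub, h2, dT_dT d δ hd hδ, sub_zero]
      · have hz30 : z₃ ∈ Cdeg R D W 0 i := Submodule.sub_mem _ h1 hmem
        by_cases hl : l + 0 = i + q
        swap
        · exact hz30 q l hl
        obtain rfl : l = i + q := by omega
        rcases Nat.lt_succ_iff_lt_or_eq.1 hq with hlt | rfl
        · simp only [z₃, Pi.sub_apply, h3 q _ hlt, zero_sub, neg_eq_zero]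
          generalize i + q = l
          rcases l with _ | l
          · rw [dT_apply_zero, sgl_ne _ (by omega), LinearMap.zero_comp]
          · rw [dT_apply_succ, sgl_ne _ (by omega), sgl_ne _ (by omega), LinearMap.zero_comp,
              LinearMap.comp_zero, smul_zero, add_zero]
        · simp only [z₃, Pi.sub_apply]
          rw [sub_eq_zero]
          generalize i + q = l at χ hχ ⊢
          rcases l with _ | l
          · rw [dT_apply_zero, sgl_same]; exact hχ.symm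
          · rw [dT_apply_succ, sgl_same, sgl_ne _ (by omega), LinearMap.comp_zero, smul_zero,
              add_zero]
            exact hχ.symm
    have hzsplit : z = z₀.1 + z₃ + (dT d δ w₁ + dT d δ (sgl (m + 1) (i + m) χ)) := by
      simp only [z₃, z₂, z₁]
      abel
    rw [hzsplit]
    refine Submodule.add_mem _ (Submodule.add_mem _ ?_ ?_) ?_
    · exact Submodule.mem_sup_left (Submodule.mem_sup_left ⟨z₀, hz₀, rfl⟩)
    · exact (sup_le_sup (le_sup_right : G₁ ≤ _) le_rfl) (hG₁top hz₃)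
    · rw [← map_add]
      exact Submodule.mem_sup_right ⟨_, Submodule.add_mem _ hw₁
        (sgl_mem (m + 1) (i + m) 1 i χ (by omega)), rfl⟩

end Groth.Agent.GrLib8.OneDeg
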